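import Cfsg.Agent.Lib.Golay.Orbits
import Cfsg.Prelude.Def_Spor_Mathieu

/-!
# The Mathieu groups of the dodecad of squares, by tables

`fix_five_of_D1`: the pointwise stabiliser of the base five acts regularly on the dodecads through
them.  `eq_one_of_fix_D0`: an element of the group of the code stabilising the dodecad of squares
and fixing the points `0, 1, 2, 3, 4` is trivial.  `M11_decomp`: every element of `Spor.M11` is a
product of four table entries (7920 products in all).
-/

set_option autoImplicit false

namespace Cfsg.Agent.Lib.Golay.M12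

open Cfsg Cfsg.Agent.Lib.Golay.Core Cfsg.Agent.Lib.Golay.Perm Cfsg.Agent.Lib.Golay.Chain
  Cfsg.Agent.Lib.Golay.M24 Cfsg.Agent.Lib.Golay.Orbits
open scoped Pointwise

/-- The dodecad of squares, as a mask. -/
def D0 : ℕ := 340831

theorem D0_lt : D0 < 2 ^ 24 := by decide +kernel

theorem squareDodecad_eq : Spor.squareDodecad = setOf D0 := by
  have h1 : qrWord 0 = wordOf D0 := by
    funext p
    rw [qrWord_eq]
    have : qrMask (ZMod.val (0 : ZMod 23)) = D0 := by decide +kernel
    rw [this]
  rw [Spor.squareDodecad, h1, support_wordOf]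

/-- The table is an enumeration of the pointwise stabiliser of the base five points. -/
theorem dodTable_mem : ∀ P ∈ dodTable, g P ∈ Fix [3, 2, 1, 0, 23] := by
  have h := (by decide +kernel : tableOK [3, 2, 1, 0, 23] dodTable = true)
  intro P hP
  obtain ⟨h1, h2⟩ := tableOK_spec h P hP
  refine ⟨g_mem_M24 h1, fun x hx => ?_⟩
  have hx24 : x < 24 := by
    simp only [List.mem_cons, List.not_mem_nil, or_false] at hx
    omega
  rw [g_pt (checkAut_valid h1) hx24, h2 x hx]

theorem dodTable_nodup : (dodTable.map fun P => mapMask P D1).Nodup := by decide +kernel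

theorem dodTable_id : ∀ Q ∈ dodTable, mapMask Q D1 = D1 → ∀ i < 24, img Q i = i := by
  decide +kernel

theorem g_eq_one_of_img {Q : ℕ} (hQ : validPerm Q = true) (h : ∀ i < 24, img Q i = i) : g Q = 1 := by
  ext p
  rw [g_apply hQ, h _ (idx_lt p), pt_idx]
  rfl

theorem mem_table_of_fix {σ : Equiv.Perm GolayPt} (hσ : σ ∈ Fix [3, 2, 1, 0, 23]) :
    ∃ Q ∈ dodTable, σ = g Q := by
  classical
  let A : Finset (Equiv.Perm GolayPt) := dodTable.toFinset.image g
  have hcheck : ∀ Q ∈ dodTable, checkAut Q = true := fun Q hQ => allL_iff.mp dodTable_check Q hQ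
  have hinj : Set.InjOn g (dodTable.toFinset : Set ℕ) := by
    intro a ha b hb hab
    have ha' : a ∈ dodTable := by simpa using ha
    have hb' : b ∈ dodTable := by simpa using hb
    have h1 : setOf (mapMask a D1) = setOf (mapMask b D1) := by
      rw [← smul_setOf (checkAut_valid (hcheck a ha')), ← smul_setOf (checkAut_valid (hcheck b hb')), hab]
    have h2 := eq_of_setOf_eq (mapMask_lt (checkAut_valid (hcheck a ha')) _)
      (mapMask_lt (checkAut_valid (hcheck b hb')) _) h1
    exact (List.inj_on_of_nodup_map dodTable_nodup) ha' hb' h2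
  have hcardA : A.card = 48 := by
    rw [Finset.card_image_of_injOn hinj, List.toFinset_card_of_nodup]
    · decide +kernel
    · exact List.Nodup.of_map _ dodTable_nodup
  have hsub : (A : Set (Equiv.Perm GolayPt)) ⊆ Fix [3, 2, 1, 0, 23] := by
    intro τ hτ
    obtain ⟨Q, hQ, rfl⟩ := Finset.mem_image.mp hτ
    exact dodTable_mem Q (by simpa using hQ)
  have hFinite : Finite (Fix [3, 2, 1, 0, 23]) := inferInstance
  have hEq : (A : Set (Equiv.Perm GolayPt)) = Fix [3, 2, 1, 0, 23] := by
    apply Set.eq_of_subset_of_ncard_le hsub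
    · rw [Set.ncard_coe_finset, hcardA, ← Nat.card_coe_set_eq]
      exact card_F5.le
  have hσA : σ ∈ (A : Set (Equiv.Perm GolayPt)) := hEq ▸ hσ
  obtain ⟨Q, hQ, rfl⟩ := Finset.mem_image.mp hσA
  exact ⟨Q, by simpa using hQ, rfl⟩

/-- The stabiliser of the base five points acts regularly on the dodecads through them. -/
theorem fix_five_of_D1 {σ : Equiv.Perm GolayPt} (hσ : σ ∈ Fix [3, 2, 1, 0, 23])
    (hD : σ • setOf D1 = setOf D1) : σ = 1 := by
  obtain ⟨Q, hQ, rfl⟩ := mem_table_of_fix hσ
  have hc := allL_iff.mp dodTable_check Q hQ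
  rw [smul_setOf (checkAut_valid hc)] at hD
  have h2 := eq_of_setOf_eq (mapMask_lt (checkAut_valid hc) _) D1_lt hD
  exact g_eq_one_of_img (checkAut_valid hc) (dodTable_id Q hQ h2)

/-- A fixed element carrying the base five to `0, 1, 2, 3, 4` and `D1` to `D0`. -/
def tau : ℕ := 29092037053979253400237718751022145

theorem tau_check : checkAut tau = true := by decide +kernel
theorem tau_D1 : mapMask tau D1 = D0 := by decide +kernel
theorem tau_base : img tau 23 = 0 ∧ img tau 0 = 1 ∧ img tau 1 = 2 ∧ img tau 2 = 3 ∧ img tau 3 = 4 := by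
  decide +kernel

/-- An element of the group of the code stabilising `D0` and fixing `0, 1, 2, 3, 4` is trivial. -/
theorem eq_one_of_fix_D0 {σ : Equiv.Perm GolayPt} (hσ : σ ∈ M24) (hD : σ • setOf D0 = setOf D0)
    (hfix : ∀ j < 5, σ (pt j) = pt j) : σ = 1 := by
  have hv := checkAut_valid tau_check
  have ht : g tau ∈ M24 := g_mem_M24 tau_check
  have h1 : (g tau)⁻¹ * σ * g tau = 1 := by
    apply fix_five_of_D1
    · refine ⟨M24.mul_mem (M24.mul_mem (M24.inv_mem ht) hσ) ht, ?_⟩
      have key : ∀ x < 24, (∃ j < 5, img tau x = j) → ((g tau)⁻¹ * σ * g tau) (pt x) = pt x := by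
        rintro x hx ⟨j, hj, hjx⟩
        rw [Equiv.Perm.mul_apply, Equiv.Perm.mul_apply, g_pt hv hx, hjx, hfix j hj,
          Equiv.Perm.inv_eq_iff_eq, g_pt hv hx, hjx]
      obtain ⟨h23, h0, h1, h2, h3⟩ := tau_base
      intro x hx
      simp only [List.mem_cons, List.not_mem_nil, or_false] at hx
      rcases hx with rfl | rfl | rfl | rfl | rfl
      · exact key _ (by norm_num) ⟨4, by norm_num, h3⟩
      · exact key _ (by norm_num) ⟨3, by norm_num, h2⟩
      · exact key _ (by norm_num) ⟨2, by norm_num, h1⟩
      · exact key _ (by norm_num) ⟨1, by norm_num, h0⟩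
      · exact key _ (by norm_num) ⟨0, by norm_num, h23⟩
    · have e : g tau • setOf D1 = setOf D0 := by
        rw [smul_setOf hv, tau_D1]
      rw [mul_smul, mul_smul, e, hD, ← e, inv_smul_smul]
  have h2 : σ * g tau = g tau := by
    have : g tau * ((g tau)⁻¹ * σ * g tau) = g tau * 1 := by rw [h1]
    simpa [mul_assoc] using this
  exact mul_eq_right.mp h2

/-! ## The chain -/

/-- Elements stabilising the dodecad and fixing the first `k` points. -/
def Lev (k : ℕ) (σ : Equiv.Perm GolayPt) : Prop :=
  σ ∈ M24 ∧ σ • setOf D0 = setOf D0 ∧ ∀ j < k, σ (pt j) = pt j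

theorem mem_setOf_of_smul {σ : Equiv.Perm GolayPt} {s : Finset GolayPt} (h : σ • s = s) {p : GolayPt}
    (hp : p ∈ s) : σ p ∈ s := by
  rw [← h]
  exact Finset.smul_mem_smul_finset hp

/-- A validated level table. -/
def levOK (k : ℕ) (T : List ℕ) : Bool :=
  allL (fun P => checkAut P && Nat.beq (mapMask P D0) D0 &&
    allUpTo (fun j => Nat.beq (img P j) j) k) T &&
  allUpTo (fun q => (!(D0.testBit q)) || (Nat.blt q k) || T.any fun P => Nat.beq (img P k) q) 24

theorem lev_step {k : ℕ} {T : List ℕ} (hk : k < 5) (hT : levOK k T = true) {σ : Equiv.Perm GolayPt}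
    (hσ : Lev k σ) : ∃ P ∈ T, checkAut P = true ∧ ∃ σ', Lev (k + 1) σ' ∧ σ = g P * σ' := by
  simp only [levOK, Bool.and_eq_true] at hT
  obtain ⟨hT1, hT2⟩ := hT
  have hk24 : k < 24 := by omega
  have hkD : D0.testBit k = true := by
    have : ∀ k < 5, D0.testBit k = true := by decide +kernel
    exact this k hk
  have hmem : σ (pt k) ∈ setOf D0 := by
    apply mem_setOf_of_smul hσ.2.1
    rw [mem_setOf, idx_pt hk24]
    exact hkD
  set q := idx (σ (pt k)) with hq
  have hq24 : q < 24 := idx_lt _
  have hqk : σ (pt k) = pt q := by rw [hq, pt_idx]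
  have hqD : D0.testBit q = true := mem_setOf.mp hmem
  have hqnot : ¬ q < k := by
    intro hlt
    have h1 := hσ.2.2 q hlt
    have h2 : pt k = pt q := σ.injective (hqk.trans h1.symm)
    have := pt_injOn hk24 hq24 h2
    omega
  have hc := allUpTo_iff.mp hT2 q hq24
  simp only [Bool.or_eq_true, Bool.not_eq_true', List.any_eq_true] at hc
  rcases hc with (h1 | h1) | ⟨P, hP, hPk⟩
  · rw [hqD] at h1
    exact absurd h1 (by simp)
  · exact absurd (Nat.blt_eq.mp h1) hqnot
  · have hPk' : img P k = q := Nat.eq_of_beq_eq_true hPk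
    have h3 := allL_iff.mp hT1 P hP
    simp only [Bool.and_eq_true] at h3
    obtain ⟨⟨hP1, hP2⟩, hP3⟩ := h3
    have hv := checkAut_valid hP1
    have hfixP : ∀ j < k, g P (pt j) = pt j := by
      intro j hj
      rw [g_pt hv (by omega), Nat.eq_of_beq_eq_true (allUpTo_iff.mp hP3 j hj)]
    have hPD : g P • setOf D0 = setOf D0 := by
      rw [smul_setOf hv, Nat.eq_of_beq_eq_true hP2]
    refine ⟨P, hP, hP1, (g P)⁻¹ * σ, ⟨M24.mul_mem (M24.inv_mem (g_mem_M24 hP1)) hσ.1, ?_, ?_⟩, by simp⟩
    · rw [mul_smul, hσ.2.1, inv_smul_eq_iff, hPD]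
    · intro j hj
      rw [Equiv.Perm.mul_apply, Equiv.Perm.inv_eq_iff_eq]
      rcases Nat.lt_succ_iff_lt_or_eq.mp hj with h | rfl
      · rw [hσ.2.2 j h, hfixP j h]
      · rw [hqk, g_pt hv hk24, hPk']

/-- Transversals. -/
def U1 : List ℕ := [984818244535754528103549039458486304, 726582681830166022317263212481032256, 425188521204492832209172814512063584, 962450180966493129652682446609893504, 236685065555733536018449047254840512, 591500642120027610650159341666087168, 609024117886239702822775376486925600, 630471385494634074345424583450506624, 817076010796126014992022732277908896, 422673339471341864509276629244454400, 885498869776351923287521567030054464]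
def U2 : List ℕ := [984818244535754528103549039458486304, 601915135321570999558303616165022752, 641669145892260802730171522388070432, 305269849641765111046453360272152608, 650770663625437468719924362604879904, 855890481124344344472566619054416928, 606498202275493554735876872429776928, 897668631986611278852233045884580896, 648700353780522259629880927729401888, 226340681766997125304315295971035168]
def U3 : List ℕ := [984818244535754528103549039458486304, 487607080158395075740321133224921120, 313451266620471430272303061907212320, 425260589770023667920228681599158304, 984534996141977609297800625156032544, 719748774308089385568610015441717280, 487655643029606470073469406179395616, 858988336336270505570052787752405024, 607974513007959930786473204517505056]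
def U4 : List ℕ := [984818244535754528103549039458486304, 719923664328491199848526586197411872, 608405391266436187982588441666881568, 715872302521680643580706198532491296, 970499966350631336865513127433832480, 227578386318009578406903204956702752, 609271311764373893382231684089481248, 232652365823391711183829569059784736]

theorem U1_ok : levOK 1 U1 = true := by decide +kernel
theorem U2_ok : levOK 2 U2 = true := by decide +kernel
theorem U3_ok : levOK 3 U3 = true := by decide +kernel
theorem U4_ok : levOK 4 U4 = true := by decide +kernel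

theorem mem_M11_iff {σ : Equiv.Perm GolayPt} : σ ∈ Spor.M11 ↔ Lev 1 σ := by
  have hpt : pt 0 = (some 0 : GolayPt) := by decide
  simp only [Spor.M11, Spor.M12, Subgroup.mem_inf, MulAction.mem_stabilizer_iff, Lev,
    Equiv.Perm.smul_def, squareDodecad_eq]
  constructor
  · rintro ⟨⟨h1, h2⟩, h3⟩
    refine ⟨h1, h2, fun j hj => ?_⟩
    obtain rfl : j = 0 := by omega
    rw [hpt]; exact h3
  · rintro ⟨h1, h2, h3⟩
    refine ⟨⟨h1, h2⟩, ?_⟩
    rw [← hpt]
    exact h3 0 (by norm_num)

/-- **The elements of `Spor.M11`.** -/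
theorem M11_decomp {σ : Equiv.Perm GolayPt} (hσ : σ ∈ Spor.M11) :
    ∃ a ∈ U1, ∃ b ∈ U2, ∃ c ∈ U3, ∃ d ∈ U4, validPerm a = true ∧ validPerm b = true ∧
      validPerm c = true ∧ validPerm d = true ∧ σ = g a * g b * g c * g d := by
  have h1 := mem_M11_iff.mp hσ
  obtain ⟨a, ha, hac, σ1, hσ1, e1⟩ := lev_step (by norm_num) U1_ok h1
  obtain ⟨b, hb, hbc, σ2, hσ2, e2⟩ := lev_step (by norm_num) U2_ok hσ1
  obtain ⟨c, hc, hcc, σ3, hσ3, e3⟩ := lev_step (by norm_num) U3_ok hσ2
  obtain ⟨d, hd, hdc, σ4, hσ4, e4⟩ := lev_step (by norm_num) U4_ok hσ3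
  have h5 : σ4 = 1 := eq_one_of_fix_D0 hσ4.1 hσ4.2.1 hσ4.2.2
  refine ⟨a, ha, b, hb, c, hc, d, hd, checkAut_valid hac, checkAut_valid hbc, checkAut_valid hcc,
    checkAut_valid hdc, ?_⟩
  rw [e1, e2, e3, e4, h5]
  simp [mul_assoc]

end Cfsg.Agent.Lib.Golay.M12
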