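import Cfsg.Agent.Lib.Golay.OutFam
import Cfsg.Agent.Lib.Golay.M12

/-!
# The Mathieu groups as subgroups of permutations: memberships and orders
-/

set_option autoImplicit false

namespace Cfsg.Agent.Lib.Golay.OutGroups

open Cfsg Cfsg.Agent.Lib.Golay.Core Cfsg.Agent.Lib.Golay.Perm Cfsg.Agent.Lib.Golay.Chain
  Cfsg.Agent.Lib.Golay.M24 Cfsg.Agent.Lib.Golay.Stab Cfsg.Agent.Lib.Golay.Dodecad
  Cfsg.Agent.Lib.Golay.M12
open scoped Pointwise

theorem pt23 : pt 23 = (none : GolayPt) := rfl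

theorem pt0 : pt 0 = (some 0 : GolayPt) := by decide

theorem M23_eq : Spor.M23 = Chain.Fix [23] := by
  ext σ
  simp only [Spor.M23, Subgroup.mem_inf, MulAction.mem_stabilizer_iff, mem_Fix, List.mem_singleton,
    forall_eq, Equiv.Perm.smul_def, pt23]

theorem M22_eq : Spor.M22 = Chain.Fix [0, 23] := by
  ext σ
  simp only [Spor.M22, Spor.M23, Subgroup.mem_inf, MulAction.mem_stabilizer_iff, mem_Fix,
    List.mem_cons, List.not_mem_nil, or_false, forall_eq_or_imp, forall_eq, Equiv.Perm.smul_def, pt23,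
    pt0]
  tauto

theorem card_M23 : Nat.card Spor.M23 = 10200960 := by
  rw [M23_eq, card_F1]

theorem card_M22 : Nat.card Spor.M22 = 443520 := by
  rw [M22_eq, card_F2]

theorem mem_M12_iff {σ : Equiv.Perm GolayPt} :
    σ ∈ Spor.M12 ↔ σ ∈ M24 ∧ σ • setOf D0 = setOf D0 := by
  simp only [Spor.M12, Subgroup.mem_inf, MulAction.mem_stabilizer_iff, squareDodecad_eq]

theorem D0_mem : setOf D0 ∈ dodecads :=
  (setOf_mem_dodecads_iff (by decide +kernel)).mpr ⟨by decide +kernel, by decide +kernel⟩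

theorem M12_eq : Spor.M12 = stabS (setOf D0) := by
  ext σ
  rw [mem_M12_iff, mem_stabS]

theorem card_M12 : Nat.card Spor.M12 = 95040 := by
  rw [M12_eq, card_stabS_dodecad D0_mem]

theorem card_M11 : Nat.card Spor.M11 = 7920 := by
  have h0 : pt 0 ∈ setOf D0 := by decide +kernel
  rw [← card_stab_dodecad_point D0_mem h0]
  apply Nat.card_congr
  refine ⟨fun x => ⟨⟨x.1, x.2.1.1⟩, ⟨?_, ?_⟩⟩, fun y => ⟨y.1.1, ⟨⟨y.1.2, ?_⟩, ?_⟩⟩, fun x => rfl,
    fun y => rfl⟩
  · have := (mem_M12_iff.mp x.2.1).2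
    exact MulAction.mem_stabilizer_iff.mpr this
  · have h1 := MulAction.mem_stabilizer_iff.mp x.2.2
    apply MulAction.mem_stabilizer_iff.mpr
    rw [pt0]
    exact h1
  · exact (mem_M12_iff.mpr ⟨y.1.2, MulAction.mem_stabilizer_iff.mp y.2.1⟩).2
  · have h1 := MulAction.mem_stabilizer_iff.mp y.2.2
    apply MulAction.mem_stabilizer_iff.mpr
    rw [← pt0]
    exact h1

theorem g_mem_M23 {P : ℕ} (h1 : checkAut P = true) (h2 : img P 23 = 23) : g P ∈ Spor.M23 := by
  rw [M23_eq]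
  refine ⟨g_mem_M24 h1, fun x hx => ?_⟩
  obtain rfl : x = 23 := by simpa using hx
  rw [g_pt (checkAut_valid h1) (by norm_num), h2]

theorem g_mem_M22 {P : ℕ} (h1 : checkAut P = true) (h2 : img P 23 = 23) (h3 : img P 0 = 0) :
    g P ∈ Spor.M22 := by
  rw [M22_eq]
  refine ⟨g_mem_M24 h1, fun x hx => ?_⟩
  simp only [List.mem_cons, List.not_mem_nil, or_false] at hx
  rcases hx with rfl | rfl
  · rw [g_pt (checkAut_valid h1) (by norm_num), h3]
  · rw [g_pt (checkAut_valid h1) (by norm_num), h2]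

theorem g_mem_M12 {P : ℕ} (h1 : checkAut P = true) (h2 : mapMask P D0 = D0) : g P ∈ Spor.M12 := by
  rw [mem_M12_iff]
  exact ⟨g_mem_M24 h1, by rw [smul_setOf (checkAut_valid h1), h2]⟩

theorem g_mem_M11 {P : ℕ} (h1 : checkAut P = true) (h2 : mapMask P D0 = D0) (h3 : img P 0 = 0) :
    g P ∈ Spor.M11 := by
  refine ⟨g_mem_M12 h1 h2, ?_⟩
  apply MulAction.mem_stabilizer_iff.mpr
  rw [← pt0, Equiv.Perm.smul_def, g_pt (checkAut_valid h1) (by norm_num), h3]

theorem M11_fix {t : Equiv.Perm GolayPt} (ht : t ∈ Spor.M11) : t (pt 0) = pt 0 := by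
  have := MulAction.mem_stabilizer_iff.mp ht.2
  rw [pt0]
  exact this

theorem M11_le : Spor.M11 ≤ M24 := fun _ h => h.1.1

theorem M12_le : Spor.M12 ≤ M24 := fun _ h => h.1

theorem M23_le : Spor.M23 ≤ M24 := fun _ h => h.1

theorem M22_le : Spor.M22 ≤ M24 := fun _ h => h.1.1

end Cfsg.Agent.Lib.Golay.OutGroups
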