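import Cfsg.Prelude.Def_Sporadic_a

/-!
# A kernel-friendly bitmask model of the length-24 code

Points of `GolayPt` are numbered `0..23` (`some x ↦ x.val`, `none ↦ 23`); words and subsets are
natural numbers below `2^24`.  All loops are written directly with recursors, and all arithmetic
with the kernel-accelerated primitives of `Nat`, to make `decide +kernel` fast.
-/

set_option autoImplicit false

namespace Cfsg.Agent.Lib.Golay.Core

open Cfsg
open scoped Pointwise

/-! ## Loops -/

/-- `allUpTo p k`: `p i` holds for all `i < k`. -/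
def allUpTo (p : ℕ → Bool) (k : ℕ) : Bool :=
  Nat.rec true (fun i ih => cond (p i) ih false) k

theorem allUpTo_succ (p : ℕ → Bool) (k : ℕ) :
    allUpTo p (k + 1) = cond (p k) (allUpTo p k) false := rfl

theorem allUpTo_iff {p : ℕ → Bool} {k : ℕ} : allUpTo p k = true ↔ ∀ i < k, p i = true := by
  induction k with
  | zero => simp [allUpTo]
  | succ k ih =>
    rw [allUpTo_succ]
    cases hk : p k with
    | false =>
      simp only [cond_false, Bool.false_eq_true, false_iff, not_forall]
      exact ⟨k, Nat.lt_succ_self k, by simp [hk]⟩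
    | true =>
      simp only [cond_true, ih]
      constructor
      · intro h i hi
        rcases Nat.lt_succ_iff_lt_or_eq.mp hi with h' | rfl
        · exact h i h'
        · exact hk
      · intro h i hi
        exact h i (Nat.lt_succ_of_lt hi)

/-- Number of `i < k` with `p i`. -/
def countUpTo (p : ℕ → Bool) (k : ℕ) : ℕ :=
  Nat.rec 0 (fun i ih => cond (p i) (Nat.succ ih) ih) k

theorem countUpTo_succ (p : ℕ → Bool) (k : ℕ) :
    countUpTo p (k + 1) = cond (p k) (Nat.succ (countUpTo p k)) (countUpTo p k) := rfl

theorem countUpTo_eq (p : ℕ → Bool) (k : ℕ) :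
    countUpTo p k = ((Finset.range k).filter fun i => p i = true).card := by
  induction k with
  | zero => simp [countUpTo]
  | succ k ih =>
    rw [countUpTo_succ, Finset.range_add_one, Finset.filter_insert, ih]
    cases hk : p k with
    | false => simp
    | true =>
      simp only [cond_true, if_true]
      rw [Finset.card_insert_of_notMem]
      simp

/-- `allL p l`: `p x` holds for all members of the list. -/
def allL (p : ℕ → Bool) (l : List ℕ) : Bool :=
  List.rec true (fun h _ ih => cond (p h) ih false) l

theorem allL_cons (p : ℕ → Bool) (h : ℕ) (t : List ℕ) :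
    allL p (h :: t) = cond (p h) (allL p t) false := rfl

theorem allL_iff {p : ℕ → Bool} {l : List ℕ} : allL p l = true ↔ ∀ x ∈ l, p x = true := by
  induction l with
  | nil => simp [allL]
  | cons h t ih =>
    rw [allL_cons]
    cases hk : p h with
    | false => simp [hk]
    | true => simp [hk, ih]

/-! ## Points -/

/-- The number of a point. -/
def idx : GolayPt → ℕ
  | none => 23
  | some x => ZMod.val x

/-- The point with a given number. -/
def pt (i : ℕ) : GolayPt := if i < 23 then some (i : ZMod 23) else none

theorem idx_lt (p : GolayPt) : idx p < 24 := by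
  cases p with
  | none => simp [idx]
  | some x =>
    have := ZMod.val_lt x
    simp only [idx]
    omega

theorem pt_idx (p : GolayPt) : pt (idx p) = p := by
  revert p
  decide +kernel

theorem idx_pt {i : ℕ} (h : i < 24) : idx (pt i) = i := by
  have : ∀ i < 24, idx (pt i) = i := by decide +kernel
  exact this i h

theorem idx_injective : Function.Injective idx :=
  Function.LeftInverse.injective pt_idx

theorem pt_injOn {i j : ℕ} (hi : i < 24) (hj : j < 24) (h : pt i = pt j) : i = j := by
  rw [← idx_pt hi, ← idx_pt hj, h]

/-- `GolayPt` is a set of 24 points. -/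
theorem card_golayPt : Fintype.card GolayPt = 24 := by
  simp [ZMod.card]

/-! ## Bit masks -/

/-- Bit `i` of `n` as a number: the kernel computes this with two primitive operations. -/
def bit (n i : ℕ) : ℕ := Nat.land (Nat.shiftRight n i) 1

theorem bit_eq (n i : ℕ) : bit n i = (n.testBit i).toNat := by
  have h1 : bit n i = (n >>> i) &&& 1 := rfl
  rw [h1, Nat.testBit, Nat.and_comm]
  have h2 : 1 &&& (n >>> i) = (n >>> i) % 2 := Nat.one_and_eq_mod_two _
  rw [h2]
  rcases Nat.mod_two_eq_zero_or_one (n >>> i) with h | h <;> simp [h]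

theorem bit_eq_one_iff {n i : ℕ} : bit n i = 1 ↔ n.testBit i = true := by
  rw [bit_eq]; cases n.testBit i <;> simp

theorem bit_eq_zero_iff {n i : ℕ} : bit n i = 0 ↔ n.testBit i = false := by
  rw [bit_eq]; cases n.testBit i <;> simp

/-- The word with mask `n`. -/
def wordOf (n : ℕ) : GolayPt → ZMod 2 := fun p => if n.testBit (idx p) = true then 1 else 0

/-- The set of points with mask `n`. -/
def setOf (n : ℕ) : Finset GolayPt := Finset.univ.filter fun p => n.testBit (idx p) = true

@[simp] theorem mem_setOf {n : ℕ} {p : GolayPt} : p ∈ setOf n ↔ n.testBit (idx p) = true := by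
  simp [setOf]

theorem support_wordOf (n : ℕ) : support₂ (wordOf n) = setOf n := by
  ext p
  simp only [support₂, wordOf, setOf, Finset.mem_filter, Finset.mem_univ, true_and]
  by_cases h : n.testBit (idx p) = true <;> simp [h]

theorem wordOf_xor (a b : ℕ) : wordOf (a ^^^ b) = wordOf a + wordOf b := by
  funext p
  simp only [wordOf, Nat.testBit_xor, Pi.add_apply]
  cases a.testBit (idx p) <;> cases b.testBit (idx p) <;> rfl

theorem wordOf_zero : wordOf 0 = 0 := by
  funext p
  simp [wordOf]

theorem wordOf_ones : wordOf 16777215 = 1 := by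
  funext p
  revert p
  decide +kernel

theorem wordOf_land_apply (a b : ℕ) (p : GolayPt) :
    wordOf (a &&& b) p = wordOf a p * wordOf b p := by
  simp only [wordOf, Nat.testBit_and]
  cases a.testBit (idx p) <;> cases b.testBit (idx p) <;> simp

/-- The mask of a set of points. -/
def maskOf (s : Finset GolayPt) : ℕ := Nat.ofBits (n := 24) fun i => decide (pt i.val ∈ s)

theorem testBit_maskOf (s : Finset GolayPt) {i : ℕ} (hi : i < 24) :
    (maskOf s).testBit i = decide (pt i ∈ s) := by
  simp only [maskOf]
  rw [Nat.testBit_ofBits_lt _ _ hi]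

theorem maskOf_lt (s : Finset GolayPt) : maskOf s < 2 ^ 24 := Nat.ofBits_lt_two_pow _

theorem setOf_maskOf (s : Finset GolayPt) : setOf (maskOf s) = s := by
  ext p
  simp [testBit_maskOf s (idx_lt p), pt_idx]

theorem eq_of_setOf_eq {a b : ℕ} (ha : a < 2 ^ 24) (hb : b < 2 ^ 24)
    (h : setOf a = setOf b) : a = b := by
  apply Nat.eq_of_testBit_eq
  intro i
  by_cases hi : i < 24
  · have h1 : pt i ∈ setOf a ↔ pt i ∈ setOf b := by rw [h]
    simp only [mem_setOf, idx_pt hi] at h1
    cases ha' : a.testBit i <;> cases hb' : b.testBit i <;> simp_all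
  · push Not at hi
    have h2 : (2 : ℕ) ^ 24 ≤ 2 ^ i := Nat.pow_le_pow_right (by norm_num) hi
    rw [Nat.testBit_eq_false_of_lt (lt_of_lt_of_le ha h2),
      Nat.testBit_eq_false_of_lt (lt_of_lt_of_le hb h2)]

theorem maskOf_setOf {n : ℕ} (hn : n < 2 ^ 24) : maskOf (setOf n) = n :=
  eq_of_setOf_eq (maskOf_lt _) hn (setOf_maskOf _)

theorem setOf_injOn {a b : ℕ} (ha : a < 2 ^ 24) (hb : b < 2 ^ 24) :
    setOf a = setOf b ↔ a = b :=
  ⟨eq_of_setOf_eq ha hb, fun h => h ▸ rfl⟩

theorem wordOf_mask_support (w : GolayPt → ZMod 2) : wordOf (maskOf (support₂ w)) = w := by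
  funext p
  have h1 : (maskOf (support₂ w)).testBit (idx p) = decide (p ∈ support₂ w) := by
    rw [testBit_maskOf _ (idx_lt p), pt_idx]
  have h2 : p ∈ support₂ w ↔ w p ≠ 0 := by simp [support₂]
  simp only [wordOf, h1, decide_eq_true_eq, h2]
  generalize w p = a
  revert a
  decide

theorem exists_mask_word (w : GolayPt → ZMod 2) : ∃ n < 2 ^ 24, w = wordOf n :=
  ⟨_, maskOf_lt _, (wordOf_mask_support w).symm⟩

theorem setOf_union (a b : ℕ) : setOf (a ||| b) = setOf a ∪ setOf b := by
  ext p; simp [Nat.testBit_or]

theorem setOf_inter (a b : ℕ) : setOf (a &&& b) = setOf a ∩ setOf b := by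
  ext p; simp [Nat.testBit_and]

theorem setOf_xor (a b : ℕ) : setOf (a ^^^ b) = symmDiff (setOf a) (setOf b) := by
  ext p
  simp only [mem_setOf, Nat.testBit_xor, Finset.mem_symmDiff]
  cases a.testBit (idx p) <;> cases b.testBit (idx p) <;> simp

theorem setOf_subset_iff (a b : ℕ) : setOf a ⊆ setOf b ↔ setOf (a &&& b) = setOf a := by
  simp [setOf_inter]

/-! ## Population count -/

/-- Slow population count of the lowest `k` bits. -/
def popSlow (k : ℕ) : ℕ → ℕ :=
  Nat.rec (fun _ => 0) (fun _ ih n => Nat.add (Nat.mod n 2) (ih (Nat.div n 2))) k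

theorem popSlow_succ (k n : ℕ) : popSlow (k + 1) n = n % 2 + popSlow k (n / 2) := rfl

theorem popSlow_eq (k n : ℕ) :
    popSlow k n = ((Finset.range k).filter fun i => n.testBit i = true).card := by
  induction k generalizing n with
  | zero => simp [popSlow]
  | succ k ih =>
    rw [popSlow_succ, ih, Finset.card_filter, Finset.card_filter, Finset.sum_range_succ']
    have h0 : (if n.testBit 0 = true then 1 else 0) = n % 2 := by
      rcases Nat.mod_two_eq_zero_or_one n with h | h <;> simp [Nat.testBit_zero, h]
    rw [h0, add_comm]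
    congr 1
    apply Finset.sum_congr rfl
    intro i _
    rw [Nat.testBit_succ]

theorem popSlow_add (a b n : ℕ) : popSlow (a + b) n = popSlow a n + popSlow b (n / 2 ^ a) := by
  induction a generalizing n with
  | zero => simp [popSlow]
  | succ a ih =>
    rw [Nat.succ_add, popSlow_succ, ih, popSlow_succ, add_assoc, Nat.div_div_eq_div_mul,
      Nat.pow_succ']

theorem popSlow_mod (k n : ℕ) : popSlow k (n % 2 ^ k) = popSlow k n := by
  rw [popSlow_eq, popSlow_eq]
  congr 1
  apply Finset.filter_congr
  intro i hi
  rw [Nat.testBit_mod_two_pow]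
  simp [Finset.mem_range.mp hi]

/-- Population counts of the numbers below 4096, four bits each. -/
def popTable : ℕ := 0xcbbabaa9baa9a998baa9a998a9989887baa9a998a9989887a998988798878776baa9a998a9989887a998988798878776a9989887988787769887877687767665baa9a998a9989887a998988798878776a9989887988787769887877687767665a998988798878776988787768776766598878776877676658776766576656554baa9a998a9989887a998988798878776a9989887988787769887877687767665a998988798878776988787768776766598878776877676658776766576656554a9989887988787769887877687767665988787768776766587767665766565549887877687767665877676657665655487767665766565547665655465545443baa9a998a9989887a998988798878776a9989887988787769887877687767665a998988798878776988787768776766598878776877676658776766576656554a9989887988787769887877687767665988787768776766587767665766565549887877687767665877676657665655487767665766565547665655465545443a998988798878776988787768776766598878776877676658776766576656554988787768776766587767665766565548776766576656554766565546554544398878776877676658776766576656554877676657665655476656554655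454438776766576656554766565546554544376656554655454436554544354434332baa9a998a9989887a998988798878776a9989887988787769887877687767665a998988798878776988787768776766598878776877676658776766576656554a9989887988787769887877687767665988787768776766587767665766565549887877687767665877676657665655487767665766565547665655465545443a998988798878776988787768776766598878776877676658776766576656554988787768776766587767665766565548776766576656554766565546554544398878776877676658776766576656554877676657665655476656554655454438776766576656554766565546554544376656554655454436554544354434332a99898879887877698878776877676659887877687767665877676657665655498878776877676658776766576656554877676657665655476656554655454439887877687767665877676657665655487767665766565547665655465545443877676657665655476656554655454437665655465545443655454435443433298878776877676658776766576656554877676657665655476656554655454438776766576656554766565546554544376656554655454436554544354434332877676657665655476656554655454437665655465545443655454435443433276656554655454436554544354434332655454435443433254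43433243323221baa9a998a9989887a998988798878776a9989887988787769887877687767665a998988798878776988787768776766598878776877676658776766576656554a9989887988787769887877687767665988787768776766587767665766565549887877687767665877676657665655487767665766565547665655465545443a998988798878776988787768776766598878776877676658776766576656554988787768776766587767665766565548776766576656554766565546554544398878776877676658776766576656554877676657665655476656554655454438776766576656554766565546554544376656554655454436554544354434332a9989887988787769887877687767665988787768776766587767665766565549887877687767665877676657665655487767665766565547665655465545443988787768776766587767665766565548776766576656554766565546554544387767665766565547665655465545443766565546554544365545443544343329887877687767665877676657665655487767665766565547665655465545443877676657665655476656554655454437665655465545443655454435443433287767665766565547665655465545443766565546554544365545443544343327665655465545443655454435443433265545443544343325443433243323221a9989887988787769887877687767665988787768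77676658776766576656554988787768776766587767665766565548776766576656554766565546554544398878776877676658776766576656554877676657665655476656554655454438776766576656554766565546554544376656554655454436554544354434332988787768776766587767665766565548776766576656554766565546554544387767665766565547665655465545443766565546554544365545443544343328776766576656554766565546554544376656554655454436554544354434332766565546554544365545443544343326554544354434332544343324332322198878776877676658776766576656554877676657665655476656554655454438776766576656554766565546554544376656554655454436554544354434332877676657665655476656554655454437665655465545443655454435443433276656554655454436554544354434332655454435443433254434332433232218776766576656554766565546554544376656554655454436554544354434332766565546554544365545443544343326554544354434332544343324332322176656554655454436554544354434332655454435443433254434332433232216554544354434332544343324332322154434332433232214332322132212110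

/-- Population count of the lowest 12 bits, by table lookup. -/
def pop12 (i : ℕ) : ℕ := Nat.land (Nat.shiftRight popTable (Nat.mul 4 i)) 15

/-- Population count of the lowest 24 bits: two lookups. -/
def pop (n : ℕ) : ℕ :=
  Nat.add (pop12 (Nat.land n 4095)) (pop12 (Nat.land (Nat.shiftRight n 12) 4095))

theorem pop12_eq : ∀ i < 4096, pop12 i = popSlow 12 i := by
  have h : allUpTo (fun i => Nat.beq (pop12 i) (popSlow 12 i)) 4096 = true := by decide +kernel
  intro i hi
  exact Nat.eq_of_beq_eq_true (allUpTo_iff.mp h i hi)

theorem pop_eq_popSlow (n : ℕ) : pop n = popSlow 24 n := by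
  have hand : ∀ x : ℕ, Nat.land x 4095 = x % 2 ^ 12 := fun x => Nat.and_two_pow_sub_one_eq_mod x 12
  have e1 : Nat.land n 4095 < 4096 := by rw [hand]; exact Nat.mod_lt _ (by norm_num)
  have e2 : Nat.land (Nat.shiftRight n 12) 4095 < 4096 := by rw [hand]; exact Nat.mod_lt _ (by norm_num)
  show pop12 (Nat.land n 4095) + pop12 (Nat.land (Nat.shiftRight n 12) 4095) = _
  rw [pop12_eq _ e1, pop12_eq _ e2, hand, hand]
  rw [popSlow_mod, popSlow_mod]
  have := popSlow_add 12 12 n
  rw [show (12 + 12 : ℕ) = 24 from rfl] at this
  rw [this, show Nat.shiftRight n 12 = n / 2 ^ 12 from Nat.shiftRight_eq_div_pow n 12]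

theorem image_idx_setOf (n : ℕ) :
    (setOf n).image idx = (Finset.range 24).filter fun i => n.testBit i = true := by
  ext i
  simp only [Finset.mem_image, mem_setOf, Finset.mem_filter, Finset.mem_range]
  constructor
  · rintro ⟨p, hp, rfl⟩
    exact ⟨idx_lt p, hp⟩
  · rintro ⟨hi, hb⟩
    exact ⟨pt i, by rwa [idx_pt hi], idx_pt hi⟩

/-- The size of the set with mask `n` is the population count of `n`. -/
theorem card_setOf (n : ℕ) : (setOf n).card = pop n := by
  rw [pop_eq_popSlow, popSlow_eq, ← image_idx_setOf,
    Finset.card_image_of_injective _ idx_injective]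

theorem hammingNorm_wordOf (n : ℕ) : hammingNorm (wordOf n) = pop n := by
  rw [← card_setOf, ← support_wordOf]
  rfl

theorem hammingNorm_eq_card_support (w : GolayPt → ZMod 2) :
    hammingNorm w = (support₂ w).card := rfl

/-! ## The code -/

/-- A basis of the code, in systematic form on the lowest twelve bits. -/
def basis : List ℕ :=
  [13062145, 4845570, 13938692, 7221256, 10170384, 11952160, 15515712, 2019456, 4038912, 8077824, 11654144, 14919680]

/-- Encoder: the exclusive or of the members of `l` selected by the bits of `m`. -/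
def encAux (l : List ℕ) : ℕ → ℕ :=
  List.rec (fun _ => 0)
    (fun b _ ih m => Nat.xor (Nat.mul (Nat.mod m 2) b) (ih (Nat.div m 2))) l

theorem encAux_nil (m : ℕ) : encAux [] m = 0 := rfl

theorem encAux_cons (b : ℕ) (l : List ℕ) (m : ℕ) :
    encAux (b :: l) m = (m % 2 * b) ^^^ encAux l (m / 2) := rfl

theorem encAux_xor (l : List ℕ) (a b : ℕ) : encAux l (a ^^^ b) = encAux l a ^^^ encAux l b := by
  induction l generalizing a b with
  | nil => simp [encAux_nil]
  | cons c l ih =>
    simp only [encAux_cons]
    have h1 : (a ^^^ b) / 2 = a / 2 ^^^ b / 2 := by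
      simpa [Nat.shiftRight_eq_div_pow] using Nat.shiftRight_xor_distrib (a := a) (b := b) (i := 1)
    rw [h1, ih]
    have hmod : (a ^^^ b) % 2 = (a % 2 + b % 2) % 2 := by
      have : ∀ x : ℕ, x % 2 = (x.testBit 0).toNat := by
        intro x
        rcases Nat.mod_two_eq_zero_or_one x with h | h <;> simp [Nat.testBit_zero, h]
      rw [this (a ^^^ b), Nat.testBit_xor, this a, this b]
      cases a.testBit 0 <;> cases b.testBit 0 <;> rfl
    rw [hmod]
    rcases Nat.mod_two_eq_zero_or_one a with ha | ha <;>
      rcases Nat.mod_two_eq_zero_or_one b with hb | hb <;>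
        simp [ha, hb, Nat.xor_assoc, Nat.xor_comm, Nat.xor_left_comm]

/-- The specification of the encoder. -/
def enc (m : ℕ) : ℕ := encAux basis m

/-- Encoder tables. -/
def encLo : ℕ := 0x19703fde203e50803d97d03ccdc03b0a903a843039436038774037b010363eb035f9e034a3f03364a032ea00312d503082402f45102ecbb02d0ce02c56f02b91a02a1f0029d85028ec70272b2026a5802562d02438c023ff9022713021b66020af101f68401ee6e01d21b01c7ba01bbcf01a325019f50018c1201706701688d0154f8014159013d2c0125c60119b301034200ff3700e7dd00dba800ce0900b27c00aa960096e30085a10079d400613e005d4b0048ea00349f002c75001000000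

/-- Encoder tables. -/
def encHi : ℕ := 0xe68fc00a4f80f85f40149f00db2ec037ee80c5fe40293e009dcdc0710d80831d406fdd00a06cc04cac80bebc40527c00575bc0bb9b80498b40a54b006afac0863a80742a4098ea002c19c0c0d98032c940de090011b8c0fd78800f6840e3a8000527c0e9e7801bf740f737003886c0d44680265640ca96007e65c092a58060b5408c750043c4c0af04805d1440b1d400b4f3c0583380aa234046e3008952c06592809782407b4200cfb1c0237180d161403da100f210c01ed080ecc040000000

/-- Fast encoder: for `m < 4096` this is `enc m`. -/
def code (m : ℕ) : ℕ :=
  Nat.xor (Nat.land (Nat.shiftRight encLo (Nat.mul 24 (Nat.land m 63))) 16777215)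
    (Nat.land (Nat.shiftRight encHi (Nat.mul 24 (Nat.land (Nat.shiftRight m 6) 63))) 16777215)

theorem code_eq_enc : ∀ m < 4096, code m = enc m := by
  have h : allUpTo (fun i => Nat.beq (code i) (enc i)) 4096 = true := by decide +kernel
  intro i hi
  exact Nat.eq_of_beq_eq_true (allUpTo_iff.mp h i hi)

theorem code_props : ∀ m < 4096, code m < 2 ^ 24 ∧ Nat.land (code m) 4095 = m := by
  have h : allUpTo (fun i => (Nat.blt (code i) 16777216 && Nat.beq (Nat.land (code i) 4095) i))
      4096 = true := by decide +kernel
  intro i hi
  have := allUpTo_iff.mp h i hi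
  simp only [Bool.and_eq_true] at this
  exact ⟨Nat.blt_eq.mp this.1, Nat.eq_of_beq_eq_true this.2⟩

theorem code_lt {m : ℕ} (hm : m < 4096) : code m < 2 ^ 24 := (code_props m hm).1

theorem code_low {m : ℕ} (hm : m < 4096) : Nat.land (code m) 4095 = m := (code_props m hm).2

theorem code_injOn {a b : ℕ} (ha : a < 4096) (hb : b < 4096) (h : code a = code b) : a = b := by
  rw [← code_low ha, ← code_low hb, h]

theorem code_zero : code 0 = 0 := by decide +kernel

theorem lt_4096_xor {a b : ℕ} (ha : a < 4096) (hb : b < 4096) : a ^^^ b < 4096 :=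
  Nat.xor_lt_two_pow (n := 12) ha hb

theorem code_xor {a b : ℕ} (ha : a < 4096) (hb : b < 4096) :
    code (a ^^^ b) = code a ^^^ code b := by
  rw [code_eq_enc _ ha, code_eq_enc _ hb, code_eq_enc _ (lt_4096_xor ha hb)]
  exact encAux_xor _ _ _

/-- The masks of the generating words `qrWord t`. -/
def qrTable : ℕ := 0x4299af614cd770a66b7853357c299a3e14cd5f0a662f853357c2996be14c35f0a61af8534d7c2966be14335f0a19af854cd7c2266be15335f0299af814cd7c0a66be05335f

/-- The mask of `qrWord t`. -/
def qrMask (t : ℕ) : ℕ := Nat.land (Nat.shiftRight qrTable (Nat.mul 24 t)) 16777215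

theorem qrWord_eq : ∀ t : ZMod 23, ∀ p : GolayPt, qrWord t p = wordOf (qrMask (ZMod.val t)) p := by
  decide +kernel

/-- The masks of the 24 generators. -/
def genMask (j : ℕ) : ℕ := cond (Nat.blt j 23) (qrMask j) 16777215

theorem genMask_mem : ∀ j < 24, wordOf (genMask j) ∈ golayCode := by
  intro j hj
  by_cases h : j < 23
  · have : genMask j = qrMask j := by simp [genMask, Nat.blt_eq.mpr h]
    rw [this]
    have h2 : qrWord (j : ZMod 23) = wordOf (qrMask j) := by
      funext p
      rw [qrWord_eq]
      congr 2
      exact ZMod.val_cast_of_lt h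
    rw [← h2]
    exact Submodule.subset_span (Or.inl ⟨_, rfl⟩)
  · have hj' : j = 23 := by omega
    subst hj'
    have : genMask 23 = 16777215 := rfl
    rw [this, wordOf_ones]
    exact Submodule.subset_span (Or.inr rfl)

/-- Exclusive or of a list. -/
def xorL (l : List ℕ) : ℕ := l.foldr (· ^^^ ·) 0

theorem wordOf_xorL_mem (l : List ℕ) (h : ∀ x ∈ l, wordOf x ∈ golayCode) :
    wordOf (xorL l) ∈ golayCode := by
  induction l with
  | nil => simp [xorL, wordOf_zero, Submodule.zero_mem]
  | cons a l ih =>
    have e : xorL (a :: l) = a ^^^ xorL l := rfl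
    rw [e, wordOf_xor]
    exact Submodule.add_mem _ (h a (by simp)) (ih fun x hx => h x (by simp [hx]))

/-- Expressions of the basis words through the generators. -/
def decomp : List (List ℕ) :=
  [[0, 3, 5, 7, 9, 10, 23], [3, 4, 8], [0, 3, 4, 7, 10, 23], [3, 4, 5, 6, 8, 10], [1, 3, 4, 5, 7, 9, 10, 23], [0, 1, 2, 4, 7, 8, 9, 10, 23], [0, 2, 3, 6, 7, 8, 10, 23], [4, 6, 7, 8, 9, 10], [0, 1, 6, 8, 10], [0, 2, 5, 6], [0, 1, 5, 6, 9, 10, 23], [0, 2, 5, 9, 10, 23]]

theorem basis_decomp : basis = decomp.map (fun l => xorL (l.map genMask)) := by decide +kernel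

theorem decomp_lt : ∀ l ∈ decomp, ∀ j ∈ l, j < 24 := by decide +kernel

theorem basis_mem : ∀ b ∈ basis, wordOf b ∈ golayCode := by
  rw [basis_decomp]
  intro b hb
  obtain ⟨l, hl, rfl⟩ := List.mem_map.mp hb
  apply wordOf_xorL_mem
  intro x hx
  obtain ⟨j, hj, rfl⟩ := List.mem_map.mp hx
  exact genMask_mem j (decomp_lt l hl j hj)

theorem encAux_mem (l : List ℕ) (hl : ∀ b ∈ l, wordOf b ∈ golayCode) (m : ℕ) :
    wordOf (encAux l m) ∈ golayCode := by
  induction l generalizing m with
  | nil => simp [encAux_nil, wordOf_zero, Submodule.zero_mem]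
  | cons c l ih =>
    rw [encAux_cons, wordOf_xor]
    refine Submodule.add_mem _ ?_ (ih (fun b hb => hl b (by simp [hb])) _)
    rcases Nat.mod_two_eq_zero_or_one m with h | h
    · simp [h, wordOf_zero, Submodule.zero_mem]
    · simp [h]; exact hl c (by simp)

theorem wordOf_code_mem {m : ℕ} (hm : m < 4096) : wordOf (code m) ∈ golayCode := by
  rw [code_eq_enc m hm]
  exact encAux_mem _ basis_mem m

/-- The code as the image of the encoder, as a submodule. -/
def codeSub : Submodule (ZMod 2) (GolayPt → ZMod 2) where
  carrier := {w | ∃ m < 4096, w = wordOf (code m)}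
  zero_mem' := ⟨0, by norm_num, by rw [code_zero, wordOf_zero]⟩
  add_mem' := by
    rintro _ _ ⟨a, ha, rfl⟩ ⟨b, hb, rfl⟩
    exact ⟨a ^^^ b, lt_4096_xor ha hb, by rw [code_xor ha hb, wordOf_xor]⟩
  smul_mem' := by
    rintro c _ ⟨a, ha, rfl⟩
    have hc : c = 0 ∨ c = 1 := by revert c; decide
    rcases hc with rfl | rfl
    · exact ⟨0, by norm_num, by rw [code_zero, wordOf_zero, zero_smul]⟩
    · exact ⟨a, ha, by rw [one_smul]⟩

theorem qr_low : ∀ t < 23, code (Nat.land (qrMask t) 4095) = qrMask t ∧
    Nat.land (qrMask t) 4095 < 4096 := by decide +kernel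

theorem golayCode_le_codeSub : golayCode ≤ codeSub := by
  apply Submodule.span_le.mpr
  rintro w (⟨t, rfl⟩ | rfl)
  · refine ⟨Nat.land (qrMask (ZMod.val t)) 4095, (qr_low _ (ZMod.val_lt t)).2, ?_⟩
    rw [(qr_low _ (ZMod.val_lt t)).1]
    funext p
    exact qrWord_eq t p
  · refine ⟨4095, by norm_num, ?_⟩
    have : code 4095 = 16777215 := by decide +kernel
    rw [this, wordOf_ones]

/-- **Main bridge.** The words of `golayCode` are exactly the encoder's outputs. -/
theorem mem_golayCode_iff {w : GolayPt → ZMod 2} :
    w ∈ golayCode ↔ ∃ m < 4096, w = wordOf (code m) := by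
  constructor
  · intro h
    exact golayCode_le_codeSub h
  · rintro ⟨m, hm, rfl⟩
    exact wordOf_code_mem hm

theorem golayCode_eq_codeSub : golayCode = codeSub :=
  le_antisymm golayCode_le_codeSub fun _ h => mem_golayCode_iff.mpr h

/-- Membership test for masks. -/
def isCode (n : ℕ) : Bool := Nat.beq (code (Nat.land n 4095)) n

theorem land_lt_4096 (n : ℕ) : Nat.land n 4095 < 4096 := by
  have : Nat.land n 4095 = n % 2 ^ 12 := Nat.and_two_pow_sub_one_eq_mod n 12
  rw [this]
  exact Nat.mod_lt _ (by norm_num)

theorem isCode_code {m : ℕ} (hm : m < 4096) : isCode (code m) = true := by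
  simp only [isCode, code_low hm]
  exact Nat.beq_refl _

theorem isCode_iff {n : ℕ} : isCode n = true ↔ ∃ m < 4096, n = code m := by
  constructor
  · intro h
    exact ⟨_, land_lt_4096 n, (Nat.eq_of_beq_eq_true h).symm⟩
  · rintro ⟨m, hm, rfl⟩
    exact isCode_code hm

theorem wordOf_inj {a b : ℕ} (ha : a < 2 ^ 24) (hb : b < 2 ^ 24) (h : wordOf a = wordOf b) :
    a = b := by
  apply eq_of_setOf_eq ha hb
  rw [← support_wordOf, ← support_wordOf, h]

theorem wordOf_mem_iff {n : ℕ} (hn : n < 2 ^ 24) : wordOf n ∈ golayCode ↔ isCode n = true := by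
  rw [mem_golayCode_iff, isCode_iff]
  constructor
  · rintro ⟨m, hm, h⟩
    exact ⟨m, hm, wordOf_inj hn (code_lt hm) h⟩
  · rintro ⟨m, hm, rfl⟩
    exact ⟨m, hm, rfl⟩

theorem mem_supports_iff' {s : Finset GolayPt} :
    s ∈ supports (golayCode : Set (GolayPt → ZMod 2)) ↔ ∃ m < 4096, s = setOf (code m) := by
  constructor
  · rintro ⟨w, hw, rfl⟩
    obtain ⟨m, hm, rfl⟩ := mem_golayCode_iff.mp hw
    exact ⟨m, hm, support_wordOf _⟩
  · rintro ⟨m, hm, rfl⟩
    exact ⟨_, mem_golayCode_iff.mpr ⟨m, hm, rfl⟩, support_wordOf _⟩

theorem setOf_mem_supports_iff {n : ℕ} (hn : n < 2 ^ 24) :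
    setOf n ∈ supports (golayCode : Set (GolayPt → ZMod 2)) ↔ isCode n = true := by
  rw [mem_supports_iff', isCode_iff]
  constructor
  · rintro ⟨m, hm, h⟩
    exact ⟨m, hm, eq_of_setOf_eq hn (code_lt hm) h⟩
  · rintro ⟨m, hm, rfl⟩
    exact ⟨m, hm, rfl⟩

theorem mem_wordsOfWeight_iff {s : Finset GolayPt} {k : ℕ} :
    s ∈ wordsOfWeight (golayCode : Set (GolayPt → ZMod 2)) k ↔
      ∃ m < 4096, pop (code m) = k ∧ s = setOf (code m) := by
  simp only [wordsOfWeight, Set.mem_ofPred_eq, mem_supports_iff']
  constructor
  · rintro ⟨⟨m, hm, rfl⟩, hk⟩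
    exact ⟨m, hm, by rw [← card_setOf, hk], rfl⟩
  · rintro ⟨m, hm, hk, rfl⟩
    exact ⟨⟨m, hm, rfl⟩, by rw [card_setOf, hk]⟩

theorem mem_octads_iff {s : Finset GolayPt} :
    s ∈ octads ↔ ∃ m < 4096, pop (code m) = 8 ∧ s = setOf (code m) :=
  mem_wordsOfWeight_iff

theorem mem_dodecads_iff {s : Finset GolayPt} :
    s ∈ dodecads ↔ ∃ m < 4096, pop (code m) = 12 ∧ s = setOf (code m) :=
  mem_wordsOfWeight_iff

theorem setOf_mem_octads_iff {n : ℕ} (hn : n < 2 ^ 24) :
    setOf n ∈ octads ↔ isCode n = true ∧ pop n = 8 := by
  rw [mem_octads_iff, isCode_iff]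
  constructor
  · rintro ⟨m, hm, hk, h⟩
    have := eq_of_setOf_eq hn (code_lt hm) h
    exact ⟨⟨m, hm, this⟩, this ▸ hk⟩
  · rintro ⟨⟨m, hm, rfl⟩, hk⟩
    exact ⟨m, hm, hk, rfl⟩

theorem setOf_mem_dodecads_iff {n : ℕ} (hn : n < 2 ^ 24) :
    setOf n ∈ dodecads ↔ isCode n = true ∧ pop n = 12 := by
  rw [mem_dodecads_iff, isCode_iff]
  constructor
  · rintro ⟨m, hm, hk, h⟩
    have := eq_of_setOf_eq hn (code_lt hm) h
    exact ⟨⟨m, hm, this⟩, this ▸ hk⟩
  · rintro ⟨⟨m, hm, rfl⟩, hk⟩
    exact ⟨m, hm, hk, rfl⟩

/-- Number of code words with a given weight. -/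
def weightCount (k : ℕ) : ℕ := countUpTo (fun m => Nat.beq (pop (code m)) k) 4096

theorem ncard_wordsOfWeight (k : ℕ) :
    (wordsOfWeight (golayCode : Set (GolayPt → ZMod 2)) k).ncard = weightCount k := by
  have h : wordsOfWeight (golayCode : Set (GolayPt → ZMod 2)) k =
      (fun m => setOf (code m)) '' ((((Finset.range 4096).filter
        fun m => Nat.beq (pop (code m)) k = true) : Finset ℕ) : Set ℕ) := by
    ext s
    simp only [mem_wordsOfWeight_iff, Set.mem_image, Finset.coe_filter, Finset.mem_range,
      Set.mem_ofPred_eq]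
    constructor
    · rintro ⟨m, hm, hk, rfl⟩
      exact ⟨m, ⟨hm, by rw [hk]; exact Nat.beq_refl k⟩, rfl⟩
    · rintro ⟨m, ⟨hm, hk⟩, rfl⟩
      exact ⟨m, hm, Nat.eq_of_beq_eq_true hk, rfl⟩
  rw [h, Set.InjOn.ncard_image, Set.ncard_coe_finset, weightCount, countUpTo_eq]
  intro a ha b hb hab
  simp only [Finset.coe_filter, Finset.mem_range, Set.mem_ofPred_eq] at ha hb
  exact code_injOn ha.1 hb.1 (eq_of_setOf_eq (code_lt ha.1) (code_lt hb.1) hab)

theorem weightCount_eight : weightCount 8 = 759 := by decide +kernel
theorem weightCount_twelve : weightCount 12 = 2576 := by decide +kernel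

theorem ncard_octads : octads.ncard = 759 := by
  show (wordsOfWeight _ 8).ncard = 759
  rw [ncard_wordsOfWeight, weightCount_eight]

theorem ncard_dodecads : dodecads.ncard = 2576 := by
  show (wordsOfWeight _ 12).ncard = 2576
  rw [ncard_wordsOfWeight, weightCount_twelve]

/-- The weights of the code. -/
theorem code_weights : ∀ m < 4096, pop (code m) = 0 ∨ pop (code m) = 8 ∨ pop (code m) = 12 ∨
    pop (code m) = 16 ∨ pop (code m) = 24 := by
  have h : allUpTo (fun m => (Nat.beq (pop (code m)) 0 || Nat.beq (pop (code m)) 8 ||
      Nat.beq (pop (code m)) 12 || Nat.beq (pop (code m)) 16 || Nat.beq (pop (code m)) 24))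
      4096 = true := by decide +kernel
  intro m hm
  have h1 := allUpTo_iff.mp h m hm
  simp only [Bool.or_eq_true] at h1
  rcases h1 with ((((h1 | h1) | h1) | h1) | h1)
  · exact Or.inl (Nat.eq_of_beq_eq_true h1)
  · exact Or.inr (Or.inl (Nat.eq_of_beq_eq_true h1))
  · exact Or.inr (Or.inr (Or.inl (Nat.eq_of_beq_eq_true h1)))
  · exact Or.inr (Or.inr (Or.inr (Or.inl (Nat.eq_of_beq_eq_true h1))))
  · exact Or.inr (Or.inr (Or.inr (Or.inr (Nat.eq_of_beq_eq_true h1))))

theorem hammingNorm_mem {w : GolayPt → ZMod 2} (hw : w ∈ golayCode) :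
    hammingNorm w = 0 ∨ hammingNorm w = 8 ∨ hammingNorm w = 12 ∨ hammingNorm w = 16 ∨
      hammingNorm w = 24 := by
  obtain ⟨m, hm, rfl⟩ := mem_golayCode_iff.mp hw
  rw [hammingNorm_wordOf]
  exact code_weights m hm

/-- The dimension. -/
theorem finrank_golayCode : Module.finrank (ZMod 2) golayCode = 12 := by
  have hcard : Nat.card golayCode = 4096 := by
    have h1 : Nat.card golayCode = Nat.card (Finset.range 4096) := by
      symm
      apply Nat.card_congr
      refine Equiv.ofBijective (fun m => ⟨wordOf (code m.1), wordOf_code_mem (Finset.mem_range.mp m.2)⟩) ⟨?_, ?_⟩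
      · rintro ⟨a, ha⟩ ⟨b, hb⟩ h
        have ha' := Finset.mem_range.mp ha
        have hb' := Finset.mem_range.mp hb
        have := congrArg Subtype.val h
        simp only at this
        exact Subtype.ext (code_injOn ha' hb' (wordOf_inj (code_lt ha') (code_lt hb') this))
      · rintro ⟨w, hw⟩
        obtain ⟨m, hm, rfl⟩ := mem_golayCode_iff.mp hw
        exact ⟨⟨m, Finset.mem_range.mpr hm⟩, rfl⟩
    rw [h1, Nat.card_eq_fintype_card, Fintype.card_coe, Finset.card_range]
  have h2 := Module.natCard_eq_pow_finrank (K := ZMod 2) (V := golayCode)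
  rw [hcard, Nat.card_eq_fintype_card, ZMod.card] at h2
  exact (Nat.pow_right_injective (le_refl 2) (show 2 ^ 12 = 2 ^ _ from h2)).symm

end Cfsg.Agent.Lib.Golay.Core
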