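import Cfsg.Agent.Lib.Golay.M24

/-!
# Orbits of the group of the code on its words

`exists_map_embedding`: `k`-fold transitivity for `k ≤ 5` in elementary form.
`exists_smul_octad`, `exists_smul_dodecad`: transitivity on octads and on dodecads.
Also: transport along the group of words/supports.
-/

set_option autoImplicit false

namespace Cfsg.Agent.Lib.Golay.Orbits

open Cfsg Cfsg.Agent.Lib.Golay.Core Cfsg.Agent.Lib.Golay.Perm Cfsg.Agent.Lib.Golay.Chain
  Cfsg.Agent.Lib.Golay.M24
open scoped Pointwise

theorem pretransitive_five_aux (x y : Fin 5 ↪ GolayPt) : ∃ σ ∈ M24, ∀ i, σ (x i) = y i := by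
  obtain ⟨a, ha, h1⟩ := exists_map_five x
  obtain ⟨b, hb, h2⟩ := exists_map_five y
  refine ⟨b * a⁻¹, M24.mul_mem hb (M24.inv_mem ha), fun i => ?_⟩
  rw [Equiv.Perm.mul_apply, ← h1 i, ← h2 i]
  simp

/-- Any embedding of `Fin k` extends to `Fin 5`, for `k ≤ 5`. -/
theorem exists_extend {k : ℕ} (hk : k ≤ 5) (x : Fin k ↪ GolayPt) :
    ∃ x' : Fin 5 ↪ GolayPt, ∀ i : Fin k, x' (Fin.castLE hk i) = x i := by
  classical
  -- work in the complement
  have hcard : Fintype.card (Fin (5 - k)) ≤ Fintype.card {p : GolayPt // p ∉ Set.range x} := by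
    rw [Fintype.card_fin, Fintype.card_subtype_compl, card_golayPt]
    have : Fintype.card (Set.range x) = k := by
      rw [Set.card_range_of_injective x.injective, Fintype.card_fin]
    have h2 : Fintype.card {x_1 // x_1 ∈ Set.range x} = k := this
    omega
  obtain ⟨e⟩ := Function.Embedding.nonempty_of_card_le hcard
  let f : Fin 5 → GolayPt := fun i =>
    if h : i.val < k then x ⟨i.val, h⟩ else (e ⟨i.val - k, by have := i.2; omega⟩ : GolayPt)
  have hf : Function.Injective f := by
    intro i j hij
    simp only [f] at hij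
    by_cases hi : i.val < k <;> by_cases hj : j.val < k
    · rw [dif_pos hi, dif_pos hj] at hij
      have := x.injective hij
      exact Fin.ext (by simpa using this)
    · rw [dif_pos hi, dif_neg hj] at hij
      exact absurd ⟨_, hij⟩ (e ⟨j.val - k, by have := j.2; omega⟩).2
    · rw [dif_neg hi, dif_pos hj] at hij
      exact absurd ⟨_, hij.symm⟩ (e ⟨i.val - k, by have := i.2; omega⟩).2
    · rw [dif_neg hi, dif_neg hj] at hij
      have := e.injective (Subtype.ext hij)
      have h3 : i.val - k = j.val - k := by simpa using this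
      exact Fin.ext (by omega)
  refine ⟨⟨f, hf⟩, fun i => ?_⟩
  show f _ = _
  simp only [f, Fin.val_castLE, i.2, dite_true]

/-- `k`-fold transitivity for `k ≤ 5`. -/
theorem exists_map_embedding {k : ℕ} (hk : k ≤ 5) (x y : Fin k ↪ GolayPt) :
    ∃ σ ∈ M24, ∀ i, σ (x i) = y i := by
  obtain ⟨x', hx'⟩ := exists_extend hk x
  obtain ⟨y', hy'⟩ := exists_extend hk y
  obtain ⟨σ, hσ, h⟩ := pretransitive_five_aux x' y'
  refine ⟨σ, hσ, fun i => ?_⟩
  rw [← hx', ← hy', h]

/-- Pick five points of a large set. -/
theorem exists_five {s : Finset GolayPt} (hs : 5 ≤ s.card) :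
    ∃ y : Fin 5 ↪ GolayPt, ∀ i, y i ∈ s := by
  have h : Fintype.card (Fin 5) ≤ Fintype.card s := by simpa using hs
  obtain ⟨e⟩ := Function.Embedding.nonempty_of_card_le h
  exact ⟨e.trans (Function.Embedding.subtype _), fun i => (e i).2⟩

/-- The base five points as an embedding. -/
def base5 : Fin 5 ↪ GolayPt :=
  ⟨fun i => pt (baseF i), by
    intro i j h
    have hlt : ∀ i : Fin 5, baseF i < 24 := by decide
    have := pt_injOn (hlt i) (hlt j) h
    revert this
    revert i j
    decide⟩

theorem exists_map_base (y : Fin 5 ↪ GolayPt) : ∃ σ ∈ M24, ∀ i : Fin 5, σ (pt (baseF i)) = y i :=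
  exists_map_five y

theorem base_mem_O0 : ∀ i : Fin 5, pt (baseF i) ∈ setOf O0 := by
  have h : ∀ i : Fin 5, O0.testBit (baseF i) = true := by decide +kernel
  intro i
  have hlt : ∀ i : Fin 5, baseF i < 24 := by decide
  rw [mem_setOf, idx_pt (hlt i)]
  exact h i

theorem card_image_five (y : Fin 5 ↪ GolayPt) : (Finset.univ.map y).card = 5 := by
  rw [Finset.card_map]; rfl

/-- If the five images lie in a set then so does their `Finset`. -/
theorem five_le_inter (y : Fin 5 ↪ GolayPt) {s t : Finset GolayPt} (hs : ∀ i, y i ∈ s)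
    (ht : ∀ i, y i ∈ t) : 5 ≤ (s ∩ t).card := by
  rw [← card_image_five y]
  apply Finset.card_le_card
  intro p hp
  obtain ⟨i, -, rfl⟩ := Finset.mem_map.mp hp
  exact Finset.mem_inter.mpr ⟨hs i, ht i⟩

/-- **Transitivity on octads.** -/
theorem exists_smul_octad {o : Finset GolayPt} (ho : o ∈ octads) :
    ∃ τ ∈ M24, τ • setOf O0 = o := by
  have hcard : o.card = 8 := ho.2
  obtain ⟨y, hy⟩ := exists_five (s := o) (by omega)
  obtain ⟨σ, hσ, h⟩ := exists_map_five y
  refine ⟨σ, hσ, ?_⟩
  apply two_octads_eq (smul_mem_octads hσ O0_mem) ho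
  apply five_le_inter y _ hy
  intro i
  rw [← h i]
  exact Finset.smul_mem_smul_finset (base_mem_O0 i)

/-- The reference dodecad, containing the five base points. -/
def D1 : ℕ := 11472927

/-- Elements fixing the five base points, carrying `D1` to each dodecad containing them. -/
def dodTable : List ℕ := [984818244535754528103549039458486304, 965128854020860192151391391390468128, 963721886883755259286232606933354528, 979121071158219704299181131031480352, 968708902336673183175954409307867168, 967812279691448225500382947153381408, 971592882964418941354553515258775584, 970499966350631336865513127433832480, 976448692869377735270425038196672544, 981818691054096003685363657089320992, 972512676110088067912772961567868960, 966182099583441531322624363496310816, 983548720921252936276249910206105632, 975346028712660580592452217730074656, 980224387687010295957922729495201824, 961365507626256404119956257276790816, 983141956895601025126892051911247904, 970452748381697609285226999098476576, 979037747421335847153138073498388512, 961409415667826064667231448532617248,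 967738580936480664927891663448279072, 981515887986994088769278604842469408, 984559288045672395699075860841728032, 972679049849814778609582601333213216, 980504394422866046962412236452235296, 968918221426309407724683958819063840, 965225113279737155758354497310656544, 976531636853126291160407323722221600, 971828115858035635643548061566863392, 975754295934893126319599781779965984, 966039336168793943308839874394687520, 963515095949177277443875056653535264, 971863989228759034920585190470420512, 972606645568131968584696805283956768, 961029066359601346093702817927759904, 963582593757073591850928955785840672, 982125237077252311731715764534741024, 968621477650857569167789942210922528, 983271302155371035984055114495264800, 964862721552653238424309835408443424, 966320096358733541442380578386184224, 967365292857695660364575527991871520, 969836898326968551397880902883313696, 980874226864350081512017426024335392, 984436632068016323118584907140532256, 975728708050008715525885598301784096, 976909097487365034896521273070946336, 979416905286026856737440949975746592]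

/-- The five base points as a mask. -/
def baseMask : ℕ := Nat.lor (Nat.shiftLeft 1 23) 15

theorem dodTable_check : allL checkAut dodTable = true := by decide +kernel

theorem dodTable_cover : allUpTo (fun m => (!(Nat.beq (pop (code m)) 12 &&
    Nat.beq (Nat.land (code m) baseMask) baseMask)) ||
      (dodTable.any fun P => Nat.beq (mapMask P D1) (code m))) 4096 = true := by decide +kernel

theorem D1_lt : D1 < 2 ^ 24 := by decide +kernel
theorem D1_code : isCode D1 = true ∧ pop D1 = 12 := by decide +kernel

theorem D1_mem : setOf D1 ∈ dodecads := (setOf_mem_dodecads_iff D1_lt).mpr D1_code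

theorem baseF_lt : ∀ i : Fin 5, baseF i < 24 := by decide

theorem base_of_testBit (j : ℕ) (hb : baseMask.testBit j = true) : ∃ i : Fin 5, baseF i = j := by
  by_cases hj : j < 24
  · have key : ∀ j < 24, baseMask.testBit j = true → ∃ i : Fin 5, baseF i = j := by decide +kernel
    exact key j hj hb
  · have e : baseMask.testBit j = false := by
      apply Nat.testBit_eq_false_of_lt
      calc baseMask < 2 ^ 24 := by decide
        _ ≤ 2 ^ j := Nat.pow_le_pow_right (by norm_num) (by omega)
    rw [e] at hb
    exact absurd hb (by simp)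

theorem land_baseMask_of_mem {n : ℕ} (h : ∀ i : Fin 5, n.testBit (baseF i) = true) :
    Nat.land n baseMask = baseMask := by
  apply Nat.eq_of_testBit_eq
  intro j
  show (n &&& baseMask).testBit j = baseMask.testBit j
  rw [Nat.testBit_and]
  cases hb : baseMask.testBit j with
  | false => simp
  | true =>
    obtain ⟨i, rfl⟩ := base_of_testBit j hb
    rw [h i]
    rfl

/-- **Transitivity on dodecads.** -/
theorem exists_smul_dodecad {o : Finset GolayPt} (ho : o ∈ dodecads) :
    ∃ τ ∈ M24, τ • setOf D1 = o := by
  have hcard : o.card = 12 := ho.2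
  obtain ⟨y, hy⟩ := exists_five (s := o) (by omega)
  obtain ⟨σ, hσ, h⟩ := exists_map_five y
  have ho' : σ⁻¹ • o ∈ dodecads := smul_mem_dodecads (M24.inv_mem hσ) ho
  obtain ⟨m, hm, hm12, hmo⟩ := mem_dodecads_iff.mp ho'
  have hbase : ∀ i : Fin 5, (code m).testBit (baseF i) = true := by
    intro i
    have h1 : pt (baseF i) ∈ σ⁻¹ • o := by
      rw [Finset.mem_inv_smul_finset_iff, Equiv.Perm.smul_def, h i]
      exact hy i
    rw [hmo, mem_setOf, idx_pt (baseF_lt i)] at h1
    exact h1
  have hc := allUpTo_iff.mp dodTable_cover m hm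
  simp only [Bool.or_eq_true, Bool.not_eq_true', Bool.and_eq_false_iff] at hc
  rcases hc with (h1 | h1) | h1
  · rw [hm12] at h1
    exact absurd h1 (by simp)
  · have : Nat.beq (Nat.land (code m) baseMask) baseMask = true := by
      rw [land_baseMask_of_mem hbase]; exact Nat.beq_refl _
    rw [this] at h1
    exact absurd h1 (by simp)
  · obtain ⟨P, hP, hPm⟩ := List.any_eq_true.mp h1
    have hcheck := allL_iff.mp dodTable_check P hP
    have hPm' : mapMask P D1 = code m := Nat.eq_of_beq_eq_true hPm
    refine ⟨σ * g P, M24.mul_mem hσ (g_mem_M24 hcheck), ?_⟩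
    rw [mul_smul, smul_setOf (checkAut_valid hcheck), hPm', ← hmo]
    simp

/-! ## Transport of words -/

/-- `σ` acts on the support. -/
theorem comp_symm_eq_of_smul {σ : Equiv.Perm GolayPt} {v w : GolayPt → ZMod 2}
    (h : σ • support₂ v = support₂ w) : w = v ∘ σ.symm := by
  apply support₂_injective
  rw [← h, support_comp]

/-- The inverse action also preserves the complement of the code. -/
theorem comp_symm_not_mem {σ : Equiv.Perm GolayPt} (hσ : σ ∈ M24) {w : GolayPt → ZMod 2}
    (hw : w ∉ golayCode) : w ∘ σ.symm ∉ golayCode := by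
  intro h
  apply hw
  have := comp_mem hσ h
  have e : (w ∘ σ.symm) ∘ σ = w := by
    funext p; simp
  rwa [e] at this

theorem mem_golayCode_comp_symm_iff {σ : Equiv.Perm GolayPt} (hσ : σ ∈ M24)
    {w : GolayPt → ZMod 2} : w ∘ σ.symm ∈ golayCode ↔ w ∈ golayCode :=
  ⟨fun h => by
    by_contra hw
    exact comp_symm_not_mem hσ hw h, fun h => comp_symm_mem hσ h⟩

theorem one_mem_code : (1 : GolayPt → ZMod 2) ∈ golayCode :=
  Submodule.subset_span (Or.inr rfl)

/-- Every word of the code is, up to complement, in the orbit of one of the two references. -/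
theorem word_cases {u : GolayPt → ZMod 2} (hu : u ∈ golayCode) :
    u = 0 ∨ u = 1 ∨ (∃ τ ∈ M24, u = wordOf O0 ∘ τ.symm) ∨ (∃ τ ∈ M24, u + 1 = wordOf O0 ∘ τ.symm) ∨
      ∃ τ ∈ M24, u = wordOf D1 ∘ τ.symm := by
  have hone : (1 : GolayPt → ZMod 2) ∈ golayCode := one_mem_code
  have hweight := hammingNorm_mem hu
  rcases hweight with h | h | h | h | h
  · left
    exact hammingNorm_eq_zero.mp h
  · right; right; left
    have ho : support₂ u ∈ octads := ⟨⟨u, hu, rfl⟩, h⟩
    obtain ⟨τ, hτ, hτo⟩ := exists_smul_octad ho
    refine ⟨τ, hτ, ?_⟩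
    apply comp_symm_eq_of_smul
    rw [support_wordOf]
    exact hτo
  · right; right; right; right
    have ho : support₂ u ∈ dodecads := ⟨⟨u, hu, rfl⟩, h⟩
    obtain ⟨τ, hτ, hτo⟩ := exists_smul_dodecad ho
    refine ⟨τ, hτ, ?_⟩
    apply comp_symm_eq_of_smul
    rw [support_wordOf]
    exact hτo
  · right; right; right; left
    have hv : u + 1 ∈ golayCode := Submodule.add_mem _ hu hone
    have hw : hammingNorm (u + 1) + hammingNorm u = 24 := by
      have hcomp : ∀ p, (u + 1) p ≠ 0 ↔ ¬ (u p ≠ 0) := by
        intro p
        simp only [Pi.add_apply, Pi.one_apply]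
        generalize u p = a
        revert a
        decide
      have h1 : (Finset.univ.filter fun p => (u + 1) p ≠ 0) =
          Finset.univ.filter fun p => ¬ (u p ≠ 0) := by
        ext p
        simp only [Finset.mem_filter, Finset.mem_univ, true_and, hcomp]
      have h2 := Finset.card_filter_add_card_filter_not (s := (Finset.univ : Finset GolayPt))
        (fun p => u p ≠ 0)
      rw [Finset.card_univ, card_golayPt] at h2
      simp only [hammingNorm]
      rw [h1]
      omega
    have hw8 : hammingNorm (u + 1) = 8 := by omega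
    have ho : support₂ (u + 1) ∈ octads := ⟨⟨u + 1, hv, rfl⟩, hw8⟩
    obtain ⟨τ, hτ, hτo⟩ := exists_smul_octad ho
    refine ⟨τ, hτ, ?_⟩
    apply comp_symm_eq_of_smul
    rw [support_wordOf]
    exact hτo
  · right; left
    funext p
    have h1 : (Finset.univ.filter fun p => u p ≠ 0) = Finset.univ := by
      apply Finset.eq_univ_of_card
      rw [card_golayPt]
      exact h
    have h2 : p ∈ Finset.univ.filter fun p => u p ≠ 0 := by rw [h1]; exact Finset.mem_univ p
    have h3 := (Finset.mem_filter.mp h2).2
    simp only [Pi.one_apply]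
    generalize u p = a at h3
    revert a
    decide

/-! ## Syndromes -/

theorem land_testBit_low (n : ℕ) {i : ℕ} (hi : i < 12) : (Nat.land n 4095).testBit i = n.testBit i := by
  show (n &&& (2 ^ 12 - 1)).testBit i = n.testBit i
  rw [Nat.testBit_and, Nat.testBit_two_pow_sub_one]
  simp [hi]

/-- Each word is congruent modulo the code to one supported on the high twelve bits. -/
theorem exists_syndrome (w : GolayPt → ZMod 2) :
    ∃ s < 4096, w + wordOf (s * 4096) ∈ golayCode := by
  obtain ⟨n, hn, rfl⟩ := exists_mask_word w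
  set m := Nat.land n 4095 with hm
  have hm4 : m < 4096 := land_lt_4096 n
  set t := n ^^^ code m with ht
  have ht24 : t < 2 ^ 24 := Nat.xor_lt_two_pow hn (code_lt hm4)
  have hlow : t % 2 ^ 12 = 0 := by
    apply Nat.eq_of_testBit_eq
    intro i
    rw [Nat.testBit_mod_two_pow, Nat.zero_testBit]
    by_cases hi : i < 12
    · have h1 : (code m).testBit i = n.testBit i := by
        rw [← land_testBit_low (code m) hi, code_low hm4, hm, land_testBit_low n hi]
      rw [ht, Nat.testBit_xor, h1]
      simp
    · simp [hi]
  have ht2 : t = (t / 4096) * 4096 := by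
    have := Nat.div_add_mod t (2 ^ 12)
    rw [hlow] at this
    norm_num at this ⊢
    omega
  refine ⟨t / 4096, by omega, ?_⟩
  rw [← ht2, ht, wordOf_xor]
  have e : wordOf n + (wordOf n + wordOf (code m)) = wordOf (code m) := by
    funext p
    simp only [Pi.add_apply]
    rw [← add_assoc, CharTwo.add_self_eq_zero, zero_add]
  rw [e]
  exact wordOf_code_mem hm4

/-- Test for: the element `P` moves the class of the syndrome `s`. -/
def movedS (P s : ℕ) : Bool := !(isCode (mapMask P (s * 4096) ^^^ (s * 4096)))

/-- The class of `w` is moved, if the class of its syndrome is. -/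
theorem not_mem_of_moved {P s : ℕ} (hP : checkAut P = true) (hs : s < 4096)
    (hm : movedS P s = true) {w : GolayPt → ZMod 2} (hw : w + wordOf (s * 4096) ∈ golayCode) :
    (fun p => w ((g P).symm p)) - w ∉ golayCode := by
  intro hc
  have hgP := g_mem_M24 hP
  have hv := checkAut_valid hP
  set w' := wordOf (s * 4096) with hw'
  have h1 : (w + w') ∘ (g P).symm ∈ golayCode := comp_symm_mem hgP hw
  have hc' : (w + w') ∘ (g P).symm + (w + w') + ((fun p => w ((g P).symm p)) - w) =
      wordOf (mapMask P (s * 4096) ^^^ (s * 4096)) := by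
    rw [wordOf_xor, ← wordOf_comp_symm hv]
    funext p
    simp only [Pi.add_apply, Pi.sub_apply, Function.comp_apply, ← hw']
    generalize w ((g P).symm p) = a
    generalize w p = b
    generalize w' ((g P).symm p) = c
    generalize w' p = d
    revert a b c d
    decide
  have h2 : wordOf (mapMask P (s * 4096) ^^^ (s * 4096)) ∈ golayCode := by
    rw [← hc']
    exact Submodule.add_mem _ (Submodule.add_mem _ h1 hw) hc
  have hlt : s * 4096 < 2 ^ 24 := by omega
  rw [wordOf_mem_iff (Nat.xor_lt_two_pow (mapMask_lt hv _) hlt)] at h2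
  simp only [movedS, Bool.not_eq_true'] at hm
  rw [h2] at hm
  exact absurd hm (by simp)

/-- Each nonzero syndrome is moved by one of the two elements of the stabiliser of `n0`. -/
theorem stab_case {n0 P1 P2 : ℕ} (h1 : checkAut P1 = true) (h2 : checkAut P2 = true)
    (h10 : mapMask P1 n0 = n0) (h20 : mapMask P2 n0 = n0)
    (hm : allUpTo (fun s => Nat.beq s 0 || movedS P1 s || movedS P2 s) 4096 = true)
    (w : GolayPt → ZMod 2) (hw : w ∉ golayCode) :
    ∃ σ ∈ M24, wordOf n0 ∘ σ.symm = wordOf n0 ∧ (fun p => w (σ.symm p)) - w ∉ golayCode := by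
  obtain ⟨s, hs, hsw⟩ := exists_syndrome w
  have := allUpTo_iff.mp hm s hs
  simp only [Bool.or_eq_true] at this
  rcases this with (h0 | h0) | h0
  · exfalso
    apply hw
    have : s = 0 := Nat.eq_of_beq_eq_true h0
    subst this
    have e : wordOf (0 * 4096) = 0 := by simpa using wordOf_zero
    rwa [e, add_zero] at hsw
  · exact ⟨g P1, g_mem_M24 h1, by rw [wordOf_comp_symm (checkAut_valid h1), h10],
      not_mem_of_moved h1 hs h0 hsw⟩
  · exact ⟨g P2, g_mem_M24 h2, by rw [wordOf_comp_symm (checkAut_valid h2), h20],
      not_mem_of_moved h2 hs h0 hsw⟩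

/-- Transport along the group. -/
theorem transport_stab {u : GolayPt → ZMod 2} {τ : Equiv.Perm GolayPt} (hτ : τ ∈ M24)
    (H : ∀ w : GolayPt → ZMod 2, w ∉ golayCode → ∃ σ ∈ M24, u ∘ σ.symm = u ∧
      (fun p => w (σ.symm p)) - w ∉ golayCode)
    (w : GolayPt → ZMod 2) (hw : w ∉ golayCode) :
    ∃ σ ∈ M24, (u ∘ τ.symm) ∘ σ.symm = u ∘ τ.symm ∧ (fun p => w (σ.symm p)) - w ∉ golayCode := by
  have hw0 : w ∘ τ ∉ golayCode := by
    intro h
    apply hw
    have := comp_symm_mem hτ h
    have e : (w ∘ τ) ∘ τ.symm = w := by funext p; simp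
    rwa [e] at this
  obtain ⟨σ, hσ, h1, h2⟩ := H _ hw0
  refine ⟨τ * σ * τ⁻¹, M24.mul_mem (M24.mul_mem hτ hσ) (M24.inv_mem hτ), ?_, ?_⟩
  · funext p
    have := congrFun h1 (τ.symm p)
    simp only [Function.comp_apply] at this ⊢
    rw [← this]
    congr 1
    show τ.symm ((τ * σ * τ⁻¹)⁻¹ p) = σ.symm (τ.symm p)
    simp [mul_inv_rev, Equiv.Perm.mul_apply, Equiv.Perm.inv_def]
  · intro hc
    apply h2
    have h3 := comp_mem hτ hc
    have e : ((fun p => w ((τ * σ * τ⁻¹).symm p)) - w) ∘ τ =
        (fun p => (w ∘ τ) (σ.symm p)) - w ∘ τ := by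
      funext p
      simp only [Pi.sub_apply, Function.comp_apply]
      congr 2
      show (τ * σ * τ⁻¹)⁻¹ (τ p) = τ (σ⁻¹ p)
      simp [mul_inv_rev, Equiv.Perm.mul_apply]
    rwa [e] at h3

end Cfsg.Agent.Lib.Golay.Orbits
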