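import Cfsg.Agent.Lib.Golay.OutKer
import Cfsg.Agent.Lib.PermComp.Mathieu.Bridge

/-!
# Automorphisms of subgroups of the group of the code: the family theorem

The data of a subgroup `H` generated by packed permutations `Pa`, `Pb`, from which all automorphisms
are inner.
-/

set_option autoImplicit false

namespace Cfsg.Agent.Lib.Golay.OutFam

open Cfsg Cfsg.Agent.Lib.Golay.Core Cfsg.Agent.Lib.Golay.Perm Cfsg.Agent.Lib.Golay.Chain
  Cfsg.Agent.Lib.Golay.M24 Cfsg.Agent.Lib.Golay.Stab Cfsg.Agent.Lib.Golay.Dodecad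
  Cfsg.Agent.Lib.Golay.OutAbs Cfsg.Agent.Lib.Golay.OutKer
open scoped Pointwise

/-- A valid code represents its permutation. -/
theorem rep_g {c : ℕ} (hv : validPerm c = true) :
    Cfsg.Agent.Lib.PermComp.Core.Rep 5 31 Cfsg.Agent.Lib.PermComp.G24.e24 c (g c) := by
  intro a
  have h1 := idx_g hv a
  show Cfsg.Agent.Lib.PermComp.Core.app 5 31 c (Cfsg.Agent.Lib.PermComp.G24.e24 a) =
    (Cfsg.Agent.Lib.PermComp.G24.e24 (g c a) : ℕ)
  rw [Cfsg.Agent.Lib.PermComp.Mathieu.Bridge.val_e24, Cfsg.Agent.Lib.PermComp.Mathieu.Bridge.val_e24,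
    h1]
  rfl

/-- Generation of a group from a certificate. -/
theorem closure_pair {H : Subgroup (Equiv.Perm GolayPt)} {Pa Pb : ℕ} (hA : validPerm Pa = true)
    (hB : validPerm Pb = true) (hAH : g Pa ∈ H) (hBH : g Pb ∈ H) {T : List ℕ}
    (hT : T = [Pa, Pb]) {L maskL idc : ℕ} {prog : List (ℕ × ℕ × ℕ)}
    {ls : List Cfsg.Agent.Lib.PermComp.Core.Lev}
    (hc : Cfsg.Agent.Lib.PermComp.Core.checkAll 24 5 31 L maskL idc T prog ls = true)
    (hord : Nat.card H ≤ Cfsg.Agent.Lib.PermComp.Core.orderC ls) :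
    Subgroup.closure ({g Pa, g Pb} : Set (Equiv.Perm GolayPt)) = H := by
  subst hT
  have h1 : ∀ c ∈ [Pa, Pb], ∃ g' ∈ ({g Pa, g Pb} : Set (Equiv.Perm GolayPt)),
      Cfsg.Agent.Lib.PermComp.Core.Rep 5 31 Cfsg.Agent.Lib.PermComp.G24.e24 c g' := by
    intro c hc
    simp only [List.mem_cons, List.not_mem_nil, or_false] at hc
    rcases hc with rfl | rfl
    · exact ⟨g c, Or.inl rfl, rep_g hA⟩
    · exact ⟨g c, Or.inr rfl, rep_g hB⟩
  have h2 : ∀ g' ∈ ({g Pa, g Pb} : Set (Equiv.Perm GolayPt)), ∃ c ∈ [Pa, Pb],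
      Cfsg.Agent.Lib.PermComp.Core.Rep 5 31 Cfsg.Agent.Lib.PermComp.G24.e24 c g' := by
    rintro g' (rfl | rfl)
    · exact ⟨Pa, by simp, rep_g hA⟩
    · exact ⟨Pb, by simp, rep_g hB⟩
  have h3 := Cfsg.Agent.Lib.PermComp.Core.H_eq_closure (e := Cfsg.Agent.Lib.PermComp.G24.e24)
    (w := 5) (mask := 31) h1 h2
  have h4 := Cfsg.Agent.Lib.PermComp.Core.main_of_checkAll (n := 24) (w := 5) (mask := 31)
    (e := Cfsg.Agent.Lib.PermComp.G24.e24) (fun c hc => (h1 c hc).imp fun _ h => h.2) hc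
  have h5 := h4.2.2.2.2.2
  rw [h3] at h5
  apply Subgroup.eq_of_le_of_card_ge
  · rw [Subgroup.closure_le]
    rintro x (rfl | rfl)
    · exact hAH
    · exact hBH
  · rw [h5]
    exact hord

/-- The test for normalising. -/
def conjOK (Pc Pa r : ℕ) : Bool :=
  allUpTo (fun i => Nat.beq (img Pc (img Pa i)) (iterW Pa Pa [true] r (img Pc i))) 24

theorem wd_true_one (A B : Equiv.Perm GolayPt) : wd A B [true] = A := by
  show A * 1 = A
  simp

theorem conj_of_check {Pc Pa r : ℕ} (hc : validPerm Pc = true) (hA : validPerm Pa = true)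
    (h : conjOK Pc Pa r = true) : g Pc * g Pa * (g Pc)⁻¹ = (g Pa) ^ r := by
  rw [mul_inv_eq_iff_eq_mul]
  apply Equiv.ext
  intro p
  have h1 := Nat.eq_of_beq_eq_true (allUpTo_iff.mp h (idx p) (idx_lt p))
  rw [← idx_g hA, ← idx_g hc, ← idx_g hc] at h1
  rw [← idx_wd_pow hA hA, wd_true_one] at h1
  have h2 := congrArg pt h1
  rw [pt_idx, pt_idx] at h2
  exact h2

/-- The test that a code is not the identity. -/
def notId (P : ℕ) : Bool := !(allUpTo (fun i => Nat.beq (img P i) i) 24)

theorem g_ne_one {P : ℕ} (hv : validPerm P = true) (h : notId P = true) : g P ≠ 1 := by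
  intro h1
  simp only [notId, Bool.not_eq_true'] at h
  have h2 : allUpTo (fun i => Nat.beq (img P i) i) 24 = true := by
    rw [allUpTo_iff]
    intro i hi
    have h3 := idx_g hv (pt i)
    rw [h1, idx_pt hi] at h3
    have h4 : idx ((1 : Equiv.Perm GolayPt) (pt i)) = i := idx_pt hi
    rw [h4] at h3
    rw [← h3]
    simp
  rw [h] at h2
  exact Bool.false_ne_true h2

theorem orderOf_of_check {P p : ℕ} [Fact p.Prime] (hv : validPerm P = true)
    (h : relOK P P [true] p = true) (h1 : notId P = true) : orderOf (g P) = p := by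
  apply orderOf_eq_prime
  · have := (relOK_iff hv hv [true] p).mp h
    rwa [wd_true_one] at this
  · exact g_ne_one hv h1

/-! ### Fixed points from commuting with an element of order 7 -/

theorem card_fix_le_four {u : Equiv.Perm GolayPt} (hu : u ∈ M24) (hord : orderOf u = 7) :
    (Finset.univ.filter fun p => u p = p).card ≤ 4 := by
  classical
  by_contra hc
  push Not at hc
  have h5 : 5 ≤ (Finset.univ.filter fun p => u p = p).card := hc
  obtain ⟨s, hs, hs5⟩ := Finset.exists_subset_card_eq h5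
  have hcard : Fintype.card (Fin 5) ≤ Fintype.card s := by
    simp [hs5]
  obtain ⟨e⟩ := Function.Embedding.nonempty_of_card_le hcard
  let y : Fin 5 ↪ GolayPt := e.trans (Function.Embedding.subtype _)
  have hy : ∀ i, u (y i) = y i := by
    intro i
    have : (y i) ∈ s := (e i).2
    have := hs this
    simpa using this
  obtain ⟨σ, hσ, hmap⟩ := exists_map_five y
  have hτ : σ⁻¹ * u * σ ∈ Chain.Fix [3, 2, 1, 0, 23] := by
    refine ⟨M24.mul_mem (M24.mul_mem (M24.inv_mem hσ) hu) hσ, fun x hx => ?_⟩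
    have hx' : ∃ i : Fin 5, x = baseF i := by
      simp only [List.mem_cons, List.not_mem_nil, or_false] at hx
      rcases hx with rfl | rfl | rfl | rfl | rfl
      · exact ⟨4, rfl⟩
      · exact ⟨3, rfl⟩
      · exact ⟨2, rfl⟩
      · exact ⟨1, rfl⟩
      · exact ⟨0, rfl⟩
    obtain ⟨i, rfl⟩ := hx'
    simp only [Equiv.Perm.mul_apply]
    rw [hmap i, hy i, Equiv.Perm.inv_eq_iff_eq, hmap i]
  have h1 : orderOf (⟨_, hτ⟩ : Chain.Fix [3, 2, 1, 0, 23]) ∣ Nat.card (Chain.Fix [3, 2, 1, 0, 23]) :=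
    orderOf_dvd_natCard _
  rw [Subgroup.orderOf_mk, card_F5] at h1
  have h2 : orderOf (σ⁻¹ * u * σ) = 7 := by
    have e : σ⁻¹ * u * σ = (MulAut.conj σ⁻¹) u := by
      simp
    rw [e, MulEquiv.orderOf_eq, hord]
  rw [h2] at h1
  revert h1
  decide

theorem exists_fixed_of_commute {u t : Equiv.Perm GolayPt} (hu : u ∈ M24) (hord : orderOf u = 7)
    (hcomm : Commute u t) (ht2 : t * t = 1) : ∃ p, t p = p := by
  classical
  have h7 : u ^ 7 ^ 1 = 1 := by
    rw [pow_one, ← hord]
    exact pow_orderOf_eq_one u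
  have : Fact (Nat.Prime 7) := ⟨by norm_num⟩
  have : Fact (Nat.Prime 2) := ⟨Nat.prime_two⟩
  -- the fixed points of `u`
  let S := {p : GolayPt // u p = p}
  have hS : Fintype.card S = (Finset.univ.filter fun p => u p = p).card := by
    rw [Fintype.card_subtype]
  have hmod : Fintype.card GolayPt ≡ Fintype.card S [MOD 7] := by
    let f : Function.End GolayPt := fun x => u x
    have hk : ∀ (k : ℕ) (x : GolayPt), (f ^ k) x = (u ^ k) x := by
      intro k
      induction k with
      | zero => intro x; rfl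
      | succ k ih =>
        intro x
        rw [pow_succ, pow_succ, Equiv.Perm.mul_apply, ← ih]
        rfl
    have hf : f ^ 7 ^ 1 = 1 := by
      funext x
      rw [hk, h7]
      rfl
    have := Equiv.Perm.card_fixedPoints_modEq (p := 7) (n := 1) hf
    have hcard : Fintype.card (Function.fixedPoints f) = Fintype.card S := by
      apply Fintype.card_congr
      exact Equiv.refl _
    rwa [hcard] at this
  rw [card_golayPt] at hmod
  have hle := card_fix_le_four hu hord
  have h3 : Fintype.card S = 3 := by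
    rw [← hS] at hle
    unfold Nat.ModEq at hmod
    omega
  -- `t` permutes the fixed points of `u`
  let σ : Equiv.Perm S := t.subtypePerm (fun p => by
    constructor
    · intro h
      have e : t (u p) = u (t p) := by
        rw [← Equiv.Perm.mul_apply, ← hcomm.eq, Equiv.Perm.mul_apply]
      exact t.injective (e.trans h)
    · intro h
      have e : u (t p) = t (u p) := by
        rw [← Equiv.Perm.mul_apply, hcomm.eq, Equiv.Perm.mul_apply]
      rw [e, show u p = p from h])
  have hσ2 : σ * σ = 1 := by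
    apply Equiv.ext
    intro x
    apply Subtype.ext
    show t (t x) = x
    rw [← Equiv.Perm.mul_apply, ht2]
    rfl
  have hσ : σ ^ 2 ^ 1 = 1 := by
    rw [pow_one, sq, hσ2]
  obtain ⟨a, ha⟩ := Equiv.Perm.exists_fixed_point_of_prime (p := 2) (n := 1)
    (by rw [h3]; norm_num) hσ
  exact ⟨a.1, congrArg Subtype.val ha⟩

/-! ### The family theorem -/

/-- All automorphisms are inner. -/
theorem out_one_data {H : Subgroup (Equiv.Perm GolayPt)} (hHM : H ≤ M24)
    {Pa Pai Pb Pc r p m F n : ℕ} {reps : List Rep} {rels : List (List Bool × ℕ)} [Fact p.Prime]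
    (hPa : checkAut Pa = true) (hPaH : g Pa ∈ H) (hPai : validPerm Pai = true)
    (hPaic : comp Pa Pai = idP) (hne : Pai ≠ Pa)
    (hPb : checkAut Pb = true) (hPbH : g Pb ∈ H) (hb2 : relOK Pa Pb [false] 2 = true)
    (hb1 : notId Pb = true)
    (hPc : checkAut Pc = true) (hPcH : g Pc ∈ H) (hconj : conjOK Pc Pa r = true)
    (hcard : Nat.card H = p * m) (hm : ¬ p ∣ m) (hordA : relOK Pa Pa [true] p = true)
    (hA1 : notId Pa = true)
    (htab : ∀ k < p, k ≠ 0 → ∃ i < p, (k * r ^ i) % p = 1 ∨ (k * r ^ i) % p = p - 1)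
    (hgen : Subgroup.closure ({g Pa, g Pb} : Set (Equiv.Perm GolayPt)) = H) (hF : F < 2 ^ 24)
    (hreps : repsOK reps = true) (hcov : coverOK Pa F n reps = true)
    (hpair : pairOK [Pa, Pai] Pa Pb reps rels = true) (hrel : relsOK Pa Pb rels = true)
    (hFH : ∀ t ∈ H, ∀ j < 24, F.testBit j = true → t (pt j) = pt j)
    (P : Equiv.Perm GolayPt → Prop) (hPconj : ∀ x ∈ H, ∀ t, P t → P (x * t * x⁻¹))
    (hP : ∀ α : MulAut H, P ((α ⟨g Pb, hPbH⟩ : H) : Equiv.Perm GolayPt))
    (hfp : ∀ t ∈ H, P t → ∃ q, t q = q) : Nat.card (Out H) = 1 := by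
  have hva := checkAut_valid hPa
  have hvb := checkAut_valid hPb
  have hvc := checkAut_valid hPc
  have hinv : g Pai = (g Pa)⁻¹ := by
    have h7 : g Pa * g Pai = 1 := by
      rw [← g_comp hva hPai, hPaic, g_idP]
    exact eq_inv_of_mul_eq_one_right h7
  have hord : orderOf (g Pa) = p := orderOf_of_check hva hordA hA1
  have hb22 : g Pb * g Pb = 1 := by
    have h := (relOK_iff hva hvb [false] 2).mp hb2
    have e : wd (g Pa) (g Pb) [false] = g Pb := by
      show g Pb * 1 = g Pb
      simp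
    rw [e, sq] at h
    exact h
  refine out_one_of_rigid hPaH hPbH hb22 (g_ne_one hvb hb1) hgen
    (hnorm_of_sylow hPaH hPcH p r m hcard hm hord (conj_of_check hvc hva hconj) htab) P hPconj hP rels
    ((relsOK_iff hva hvb rels).mp hrel) ?_ ?_
  · intro t ht ht2 ht1 hPt hrelt
    exact (rigid_oct hPa hF hreps hcov hpair (s := Pa) (by simp) hva (Commute.refl _) (hHM ht) ht2 ht1
      (hfp t ht hPt) (hFH t ht) hrelt).2
  · intro t ht ht2 ht1 hPt hrelt
    have := (rigid_oct hPa hF hreps hcov hpair (s := Pai) (by simp) hPai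
      (by rw [hinv]; exact (Commute.refl _).inv_left) (hHM ht) ht2 ht1
      (hfp t ht hPt) (hFH t ht) (by rw [hinv]; exact hrelt)).1
    exact hne this

end Cfsg.Agent.Lib.Golay.OutFam
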