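import Cfsg.Agent.Lib.Golay.OutAbs
import Cfsg.Agent.Lib.Golay.Dodecad

/-!
# Automorphisms of subgroups of the group of the code: kernel checks

Involutions of the group of the code with a fixed point have an octad as set of fixed points.
The pairs `(A, t)` with `t` such an involution are enumerated, up to conjugation by powers of `A`.
-/

set_option autoImplicit false

namespace Cfsg.Agent.Lib.Golay.OutKer

open Cfsg Cfsg.Agent.Lib.Golay.Core Cfsg.Agent.Lib.Golay.Perm Cfsg.Agent.Lib.Golay.Chain
  Cfsg.Agent.Lib.Golay.M24 Cfsg.Agent.Lib.Golay.Stab Cfsg.Agent.Lib.Golay.Dodecad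
  Cfsg.Agent.Lib.Golay.OutAbs
open scoped Pointwise

/-- Forces the kernel to evaluate `n` before continuing. -/
def force {β : Sort*} (n : ℕ) (k : ℕ → β) : β :=
  Nat.rec (k 0) (fun m _ => k (Nat.succ m)) n

theorem force_eq {β : Sort*} (n : ℕ) (k : ℕ → β) : force n k = k n := by
  cases n <;> rfl

/-- `List.all` by the recursor. -/
def allG {β : Type*} (f : β → Bool) (l : List β) : Bool :=
  List.rec true (fun a _ ih => cond (f a) ih false) l

theorem allG_iff {β : Type*} {f : β → Bool} {l : List β} :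
    allG f l = true ↔ ∀ a ∈ l, f a = true := by
  induction l with
  | nil => simp [allG]
  | cons a l ih =>
    have e : allG f (a :: l) = cond (f a) (allG f l) false := rfl
    rw [e]
    cases h : f a <;> simp [h, ih]

/-! ### Words on points -/

/-- The image of a point under a word. -/
def appW (PA PB : ℕ) (L : List Bool) (x : ℕ) : ℕ :=
  List.rec x (fun l _ ih => Bool.rec (img PB ih) (img PA ih) l) L

theorem idx_wd {PA PB : ℕ} (hA : validPerm PA = true) (hB : validPerm PB = true) (L : List Bool)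
    (p : GolayPt) : idx (wd (g PA) (g PB) L p) = appW PA PB L (idx p) := by
  induction L with
  | nil => rfl
  | cons l L ih =>
    cases l with
    | true =>
      show idx ((g PA * wd (g PA) (g PB) L) p) = img PA (appW PA PB L (idx p))
      rw [Equiv.Perm.mul_apply, idx_g hA, ih]
    | false =>
      show idx ((g PB * wd (g PA) (g PB) L) p) = img PB (appW PA PB L (idx p))
      rw [Equiv.Perm.mul_apply, idx_g hB, ih]

/-- The image of a point under a power of a word. -/
def iterW (PA PB : ℕ) (L : List Bool) (n x : ℕ) : ℕ :=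
  Nat.rec x (fun _ ih => appW PA PB L ih) n

theorem idx_wd_pow {PA PB : ℕ} (hA : validPerm PA = true) (hB : validPerm PB = true) (L : List Bool)
    (n : ℕ) (p : GolayPt) : idx ((wd (g PA) (g PB) L ^ n) p) = iterW PA PB L n (idx p) := by
  induction n with
  | zero => rfl
  | succ n ih =>
    show idx ((wd (g PA) (g PB) L ^ (n + 1)) p) = appW PA PB L (iterW PA PB L n (idx p))
    rw [pow_succ', Equiv.Perm.mul_apply, idx_wd hA hB, ih]

/-- The test that a power of a word is trivial. -/
def relOK (PA PB : ℕ) (L : List Bool) (n : ℕ) : Bool :=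
  allUpTo (fun i => Nat.beq (iterW PA PB L n i) i) 24

theorem relOK_iff {PA PB : ℕ} (hA : validPerm PA = true) (hB : validPerm PB = true) (L : List Bool)
    (n : ℕ) : relOK PA PB L n = true ↔ wd (g PA) (g PB) L ^ n = 1 := by
  unfold relOK
  rw [allUpTo_iff]
  constructor
  · intro h
    apply Equiv.ext
    intro p
    have h1 := Nat.eq_of_beq_eq_true (h (idx p) (idx_lt p))
    rw [← idx_wd_pow hA hB] at h1
    have h2 := congrArg pt h1
    rw [pt_idx, pt_idx] at h2
    exact h2
  · intro h i hi
    have h1 := idx_wd_pow hA hB L n (pt i)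
    rw [h, idx_pt hi] at h1
    have h2 : idx ((1 : Equiv.Perm GolayPt) (pt i)) = i := by
      show idx (pt i) = i
      exact idx_pt hi
    rw [h2] at h1
    rw [← h1]
    simp

/-- All relations in a list. -/
def relsOK (PA PB : ℕ) (rels : List (List Bool × ℕ)) : Bool :=
  allG (fun R => relOK PA PB R.1 R.2) rels

theorem relsOK_iff {PA PB : ℕ} (hA : validPerm PA = true) (hB : validPerm PB = true)
    (rels : List (List Bool × ℕ)) : relsOK PA PB rels = true ↔ Rel rels (g PA) (g PB) := by
  unfold relsOK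
  rw [allG_iff]
  exact forall₂_congr fun R _ => relOK_iff hA hB R.1 R.2

/-! ### The identity -/

/-- The code of the identity. -/
def idP : ℕ := 984818244535754528103549039458486304

theorem valid_idP : validPerm idP = true := by decide +kernel

theorem g_idP : g idP = 1 := by
  ext p
  rw [g_apply valid_idP]
  have h : ∀ i < 24, img idP i = i := by decide +kernel
  rw [h _ (idx_lt p), pt_idx]
  rfl

/-! ### Fixed points -/

/-- The mask of fixed points among the first `k`. -/
def fixAux (P k : ℕ) : ℕ :=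
  Nat.rec 0 (fun i ih => cond (Nat.beq (img P i) i) (Nat.lor ih (Nat.shiftLeft 1 i)) ih) k

theorem testBit_fixAux (P k j : ℕ) : (fixAux P k).testBit j = true ↔ j < k ∧ img P j = j := by
  induction k with
  | zero => simp [fixAux]
  | succ k ih =>
    have e : fixAux P (k + 1) =
        cond (Nat.beq (img P k) k) (Nat.lor (fixAux P k) (Nat.shiftLeft 1 k)) (fixAux P k) := rfl
    rw [e]
    cases hk : Nat.beq (img P k) k with
    | false =>
      have hk' : img P k ≠ k := by
        intro h
        rw [h] at hk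
        simp at hk
      simp only [cond_false, ih]
      constructor
      · rintro ⟨h1, h2⟩
        exact ⟨by omega, h2⟩
      · rintro ⟨h1, h2⟩
        refine ⟨?_, h2⟩
        rcases Nat.lt_succ_iff_lt_or_eq.mp h1 with h | rfl
        · exact h
        · exact absurd h2 hk'
    | true =>
      have hk' : img P k = k := Nat.eq_of_beq_eq_true hk
      have e2 : Nat.lor (fixAux P k) (Nat.shiftLeft 1 k) = fixAux P k ||| (1 <<< k) := rfl
      simp only [cond_true, e2, Nat.testBit_or, Nat.one_shiftLeft, Nat.testBit_two_pow,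
        Bool.or_eq_true, decide_eq_true_eq, ih]
      constructor
      · rintro (⟨h1, h2⟩ | rfl)
        · exact ⟨by omega, h2⟩
        · exact ⟨by omega, hk'⟩
      · rintro ⟨h1, h2⟩
        rcases Nat.lt_succ_iff_lt_or_eq.mp h1 with h | h
        · exact Or.inl ⟨h, h2⟩
        · exact Or.inr h.symm

/-- The mask of fixed points. -/
def fixM (P : ℕ) : ℕ := fixAux P 24

theorem mem_setOf_fixM {P : ℕ} (hv : validPerm P = true) (p : GolayPt) :
    p ∈ setOf (fixM P) ↔ g P p = p := by
  rw [mem_setOf, fixM, testBit_fixAux]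
  constructor
  · rintro ⟨-, h⟩
    rw [g_apply hv, h, pt_idx]
  · intro h
    refine ⟨idx_lt p, ?_⟩
    rw [← idx_g hv, h]

theorem fixM_lt (P : ℕ) : fixM P < 2 ^ 24 := by
  apply Nat.lt_pow_two_of_testBit
  · intro j hj
    by_contra hc
    have hc' : (fixM P).testBit j = true := by simpa using hc
    have := ((testBit_fixAux P 24 j).mp hc').1
    omega

/-- The test for an involution. -/
def isInv (P : ℕ) : Bool := allUpTo (fun i => Nat.beq (img P (img P i)) i) 24

theorem isInv_of {P : ℕ} (hv : validPerm P = true) (h : g P * g P = 1) : isInv P = true := by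
  unfold isInv
  rw [allUpTo_iff]
  intro i hi
  have h1 : g P (g P (pt i)) = pt i := by
    rw [← Equiv.Perm.mul_apply, h]
    rfl
  rw [g_pt hv hi, g_pt hv (valid_img_lt hv hi)] at h1
  have h2 := congrArg idx h1
  rw [idx_pt (valid_img_lt hv (valid_img_lt hv hi)), idx_pt hi] at h2
  rw [h2]
  simp

/-- Either not an involution, or its fixed points are an octad. -/
def invFix (C : ℕ) : Bool :=
  !(isInv C) || (isCode (fixM C) && Nat.beq (pop (fixM C)) 8)

/-- An element of the group of the code exchanging two points, fixing two more. -/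
def e12 : ℕ := 982206352711483037717787982528447552

theorem e12_ok : checkAut e12 = true ∧ img e12 23 = 23 ∧ img e12 0 = 0 ∧ img e12 1 = 2 ∧
    img e12 2 = 1 := by decide +kernel

theorem inv4_ok : allL (fun a => allL (fun b => invFix (comp e12 (comp a b))) E5) T4 = true := by
  decide +kernel

/-- **The fixed points of an involution with a fixed point form an octad.** -/
theorem fixed_octad {t : Equiv.Perm GolayPt} (ht : t ∈ M24) (h2 : t * t = 1) (h1 : t ≠ 1)
    {p : GolayPt} (hp : t p = p) : ∃ o ∈ octads, ∀ r, t r = r ↔ r ∈ o := by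
  classical
  have : Fact (Nat.Prime 2) := ⟨Nat.prime_two⟩
  obtain ⟨q, hq, hqp⟩ : ∃ q, t q = q ∧ q ≠ p :=
    Equiv.Perm.exists_fixed_point_of_prime' (p := 2) (n := 1)
      (by rw [card_golayPt]; norm_num) (by rw [pow_one, sq, h2]) hp
  obtain ⟨x, hx⟩ : ∃ x, t x ≠ x := by
    by_contra h
    push Not at h
    exact h1 (Equiv.ext h)
  have htt : ∀ z, t (t z) = z := fun z => by
    rw [← Equiv.Perm.mul_apply, h2]
    rfl
  have hxp : x ≠ p := fun h => hx (by rw [h, hp])
  have hxq : x ≠ q := fun h => hx (by rw [h, hq])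
  have hyp : t x ≠ p := fun h => hxp (by rw [← htt x, h, hp])
  have hyq : t x ≠ q := fun h => hxq (by rw [← htt x, h, hq])
  let u : Fin 4 → GolayPt := ![p, q, x, t x]
  have hu : Function.Injective u := by
    intro i j hij
    fin_cases i <;> fin_cases j <;> first | rfl | (exfalso; simp [u] at hij; first | exact hqp hij.symm | exact hqp hij | exact hxp hij | exact hxp hij.symm | exact hxq hij | exact hxq hij.symm | exact hyp hij | exact hyp hij.symm | exact hyq hij | exact hyq hij.symm | exact hx hij | exact hx hij.symm)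
  let v : Fin 4 → GolayPt := ![pt 23, pt 0, pt 1, pt 2]
  have hv : Function.Injective v := by decide +kernel
  obtain ⟨σ, hσ, hmap⟩ := exists_map_tuple (k := 4) (by norm_num) ⟨u, hu⟩ ⟨v, hv⟩
  have hσp : σ p = pt 23 := hmap 0
  have hσq : σ q = pt 0 := hmap 1
  have hσx : σ x = pt 1 := hmap 2
  have hσy : σ (t x) = pt 2 := hmap 3
  have hinv : ∀ z, σ⁻¹ (σ z) = z := fun z => by simp
  set t' := σ * t * σ⁻¹ with ht'
  have ht'app : ∀ z, t' (σ z) = σ (t z) := fun z => by
    rw [ht', Equiv.Perm.mul_apply, Equiv.Perm.mul_apply, hinv]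
  have ht'M : t' ∈ M24 := M24.mul_mem (M24.mul_mem hσ ht) (M24.inv_mem hσ)
  have he : checkAut e12 = true := e12_ok.1
  have hve := checkAut_valid he
  have h23 : t' (pt 23) = pt 23 := by rw [← hσp, ht'app, hp]
  have h0 : t' (pt 0) = pt 0 := by rw [← hσq, ht'app, hq]
  have h1' : t' (pt 1) = pt 2 := by rw [← hσx, ht'app, hσy]
  have h2' : t' (pt 2) = pt 1 := by rw [← hσy, ht'app, htt, hσx]
  set k := (g e12)⁻¹ * t' with hk
  have hgi : ∀ (a b : ℕ), a < 24 → img e12 a = b → (g e12)⁻¹ (pt b) = pt a := by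
    intro a b ha hab
    rw [Equiv.Perm.inv_eq_iff_eq, g_pt hve ha, hab]
  have hkF : k ∈ Chain.Fix [2, 1, 0, 23] := by
    refine ⟨M24.mul_mem (M24.inv_mem (g_mem_M24 he)) ht'M, fun y hy => ?_⟩
    simp only [List.mem_cons, List.not_mem_nil, or_false] at hy
    rcases hy with rfl | rfl | rfl | rfl
    · rw [hk, Equiv.Perm.mul_apply, h2', hgi 2 1 (by norm_num) e12_ok.2.2.2.2]
    · rw [hk, Equiv.Perm.mul_apply, h1', hgi 1 2 (by norm_num) e12_ok.2.2.2.1]
    · rw [hk, Equiv.Perm.mul_apply, h0, hgi 0 0 (by norm_num) e12_ok.2.2.1]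
    · rw [hk, Equiv.Perm.mul_apply, h23, hgi 23 23 (by norm_num) e12_ok.2.1]
  have key : ∀ j < 24, j ∈ [2, 1, 0, 23] ∨ j ∈ T4.map (fun P => img P 3) := by decide +kernel
  have horb : idx (k (pt 3)) ∈ T4.map (fun P => img P 3) := by
    rcases key _ (idx_lt (k (pt 3))) with h3 | h3
    · exfalso
      have h4 := hkF.2 _ h3
      rw [pt_idx] at h4
      have h5 := k.injective h4
      rw [h5, idx_pt (by norm_num)] at h3
      revert h3
      decide
    · exact h3
  obtain ⟨a, ha, hab⟩ := List.mem_map.mp horb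
  obtain ⟨h3, h4⟩ := tableOK_spec tableOK4 a ha
  have hva := checkAut_valid h3
  have hg : g a ∈ Chain.Fix [2, 1, 0, 23] := by
    refine ⟨g_mem_M24 h3, fun y hy => ?_⟩
    have hlt : ∀ y ∈ [2, 1, 0, 23], y < 24 := by decide
    rw [g_pt hva (hlt y hy), h4 y hy]
  have hmem : (g a)⁻¹ * k ∈ Chain.Fix [3, 2, 1, 0, 23] := by
    rw [Fix_cons]
    refine ⟨(Chain.Fix _).mul_mem ((Chain.Fix _).inv_mem hg) hkF, ?_⟩
    apply MulAction.mem_stabilizer_iff.mpr
    rw [Equiv.Perm.smul_def, Equiv.Perm.mul_apply, Equiv.Perm.inv_eq_iff_eq, g_pt hva (by norm_num),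
      hab, pt_idx]
  obtain ⟨b, hb, hab2⟩ := mem_E5 hmem
  have hvb := checkAut_valid (E5_spec b hb).1
  have hC : t' = g (comp e12 (comp a b)) := by
    rw [g_comp hve (valid_comp hva hvb), g_comp hva hvb, ← hab2]
    rw [hk]
    group
  have hvC : validPerm (comp e12 (comp a b)) = true := valid_comp hve (valid_comp hva hvb)
  have hsq : g (comp e12 (comp a b)) * g (comp e12 (comp a b)) = 1 := by
    rw [← hC, ht']
    have e3 : σ * t * σ⁻¹ * (σ * t * σ⁻¹) = σ * (t * t) * σ⁻¹ := by group
    rw [e3, h2]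
    group
  have hok := allL_iff.mp (allL_iff.mp inv4_ok a ha) b hb
  simp only [invFix, isInv_of hvC hsq, Bool.not_true, Bool.false_or, Bool.and_eq_true] at hok
  have hoct : setOf (fixM (comp e12 (comp a b))) ∈ octads :=
    (setOf_mem_octads_iff (fixM_lt _)).mpr ⟨hok.1, Nat.eq_of_beq_eq_true hok.2⟩
  refine ⟨σ⁻¹ • setOf (fixM (comp e12 (comp a b))), smul_mem_octads (M24.inv_mem hσ) hoct, fun r => ?_⟩
  rw [Finset.mem_inv_smul_finset_iff, mem_setOf_fixM hvC, ← hC]
  show _ ↔ t' (σ r) = σ r
  rw [ht'app]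
  exact ⟨fun h => by rw [h], fun h => σ.injective h⟩

/-! ### Covering the octads by orbits -/

/-- Entries `(R, S, SI)`: an octad `R`, an element `S` mapping `O0` to `R`, and its inverse. -/
abbrev Rep := ℕ × ℕ × ℕ

/-- Whether `c` is one of the octads of the list. -/
def memFst (c : ℕ) (reps : List Rep) : Bool :=
  List.rec false (fun r _ ih => cond (Nat.beq c r.1) true ih) reps

theorem memFst_spec {c : ℕ} {reps : List Rep} (h : memFst c reps = true) : ∃ r ∈ reps, c = r.1 := by
  induction reps with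
  | nil => simp [memFst] at h
  | cons a l ih =>
    have e : memFst c (a :: l) = cond (Nat.beq c a.1) true (memFst c l) := rfl
    rw [e] at h
    cases hb : Nat.beq c a.1 with
    | true => exact ⟨a, List.mem_cons_self, Nat.eq_of_beq_eq_true hb⟩
    | false =>
      rw [hb] at h
      obtain ⟨r, hr, h3⟩ := ih h
      exact ⟨r, List.mem_cons_of_mem _ hr, h3⟩

/-- Whether some image of `c` under the first `n` powers is in the list. -/
def anyIter (PA : ℕ) (reps : List Rep) (n c : ℕ) : Bool :=
  (Nat.rec (motive := fun _ => ℕ → Bool) (fun _ => false)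
    (fun _ ih c => cond (memFst c reps) true (force (mapMask PA c) ih)) n) c

theorem anyIter_succ (PA : ℕ) (reps : List Rep) (n c : ℕ) :
    anyIter PA reps (n + 1) c = cond (memFst c reps) true (force (mapMask PA c) (anyIter PA reps n)) :=
  rfl

theorem anyIter_spec {PA : ℕ} (hv : validPerm PA = true) {reps : List Rep} (n c : ℕ)
    (h : anyIter PA reps n c = true) : ∃ i : ℕ, ∃ r ∈ reps, (g PA) ^ i • setOf c = setOf r.1 := by
  induction n generalizing c with
  | zero => simp [anyIter] at h
  | succ n ih =>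
    rw [anyIter_succ] at h
    cases hb : memFst c reps with
    | true =>
      obtain ⟨r, hr, rfl⟩ := memFst_spec hb
      exact ⟨0, r, hr, by simp⟩
    | false =>
      rw [hb, force_eq] at h
      obtain ⟨i, r, hr, h3⟩ := ih _ h
      refine ⟨i + 1, r, hr, ?_⟩
      rw [pow_succ, mul_smul, smul_setOf hv, h3]

/-- All octads containing `F` have an image in the list under a power of `PA`. -/
def coverOK (PA F n : ℕ) (reps : List Rep) : Bool :=
  allUpTo (fun m => force (code m) fun c =>
    cond (Nat.beq (pop c) 8 && Nat.beq (Nat.land F c) F) (anyIter PA reps n c) true) 4096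

theorem exists_rep {PA F n : ℕ} {reps : List Rep} (hv : validPerm PA = true) (hF : F < 2 ^ 24)
    (hcov : coverOK PA F n reps = true) {o : Finset GolayPt} (ho : o ∈ octads)
    (hFo : ∀ j < 24, F.testBit j = true → pt j ∈ o) :
    ∃ i : ℕ, ∃ r ∈ reps, (g PA) ^ i • o = setOf r.1 := by
  obtain ⟨m, hm, hm8, rfl⟩ := mem_octads_iff.mp ho
  have h1 := allUpTo_iff.mp hcov m hm
  rw [force_eq] at h1
  have hl : Nat.land F (code m) = F := by
    apply Nat.eq_of_testBit_eq
    intro j
    have e : Nat.land F (code m) = F &&& code m := rfl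
    rw [e, Nat.testBit_and]
    by_cases hj : j < 24
    · cases hb : F.testBit j with
      | false => simp
      | true =>
        have := hFo j hj hb
        rw [mem_setOf, idx_pt hj] at this
        simp [this]
    · have : F.testBit j = false :=
        Nat.testBit_lt_two_pow (lt_of_lt_of_le hF (Nat.pow_le_pow_right (by norm_num) (by omega)))
      simp [this]
  have h2 : (Nat.beq (pop (code m)) 8 && Nat.beq (Nat.land F (code m)) F) = true := by
    rw [hm8, hl]
    simp
  rw [h2] at h1
  exact anyIter_spec hv n _ h1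

/-! ### Involutions fixing a given octad -/

/-- The entries of a list of representatives are correct. -/
def repsOK (reps : List Rep) : Bool :=
  allG (fun r => checkAut r.2.1 && Nat.beq (mapMask r.2.1 O0) r.1 && validPerm r.2.2 &&
    Nat.beq (comp r.2.1 r.2.2) idP) reps

theorem rep_spec {reps : List Rep} (h : repsOK reps = true) {r : Rep} (hr : r ∈ reps) :
    checkAut r.2.1 = true ∧ g r.2.1 • setOf O0 = setOf r.1 ∧ validPerm r.2.2 = true ∧
      g r.2.2 = (g r.2.1)⁻¹ := by
  have h1 := allG_iff.mp h r hr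
  simp only [Bool.and_eq_true] at h1
  obtain ⟨⟨⟨h2, h3⟩, h4⟩, h5⟩ := h1
  have hv := checkAut_valid h2
  refine ⟨h2, ?_, h4, ?_⟩
  · rw [smul_setOf hv, Nat.eq_of_beq_eq_true h3]
  · have h6 := Nat.eq_of_beq_eq_true h5
    have h7 : g r.2.1 * g r.2.2 = 1 := by
      rw [← g_comp hv h4, h6, g_idP]
    exact eq_inv_of_mul_eq_one_right h7

theorem cand_of_fix {reps : List Rep} (h : repsOK reps = true) {r : Rep} (hr : r ∈ reps)
    {t : Equiv.Perm GolayPt} (ht : t ∈ M24) (h1 : t ≠ 1) (hfix : ∀ p ∈ setOf r.1, t p = p) :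
    ∃ P ∈ T6, P ≠ idP ∧ validPerm P = true ∧ t = g (comp (comp r.2.1 P) r.2.2) := by
  obtain ⟨hS, hmap, hvS', hSI⟩ := rep_spec h hr
  have hvS := checkAut_valid hS
  set τ := g r.2.1 with hτ
  have hτM : τ ∈ M24 := g_mem_M24 hS
  have hs : τ⁻¹ * t * τ ∈ M24 ⊓ fixingSubgroup (Equiv.Perm GolayPt) ((setOf O0 : Finset GolayPt) : Set GolayPt) := by
    refine ⟨M24.mul_mem (M24.mul_mem (M24.inv_mem hτM) ht) hτM, (mem_fixingSubgroup_iff _).mpr ?_⟩
    intro y hy
    have hy' : τ y ∈ setOf r.1 := by
      rw [← hmap, Finset.mem_smul_finset]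
      exact ⟨y, hy, rfl⟩
    simp only [Equiv.Perm.smul_def, Equiv.Perm.mul_apply]
    rw [hfix _ hy']
    simp
  obtain ⟨P, hP, hPe⟩ := mem_T6 (fix_O0_iff.mp hs)
  have hvP := checkAut_valid (tableOK_spec tableOK6 P hP).1
  refine ⟨P, hP, ?_, hvP, ?_⟩
  · rintro rfl
    rw [g_idP] at hPe
    apply h1
    have e : t = τ * (τ⁻¹ * t * τ) * τ⁻¹ := by group
    rw [e, hPe]
    group
  · rw [g_comp (valid_comp hvS hvP) hvS', g_comp hvS hvP, ← hτ, hSI, ← hPe]
    group

/-! ### The enumeration of pairs -/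

/-- The only candidate among the involutions with the relations is `Pb`, for `Pa`. -/
def pairOK (Ps : List ℕ) (Pa Pb : ℕ) (reps : List Rep) (rels : List (List Bool × ℕ)) : Bool :=
  allG (fun r => allG (fun P => cond (Nat.beq P idP) true
    (force (comp (comp r.2.1 P) r.2.2) fun C =>
      allG (fun s => cond (relsOK s C rels) (Nat.beq s Pa && Nat.beq C Pb) true) Ps)) T6) reps

/-- The main rigidity statement for subgroups of the group of the code. -/
theorem rigid_oct {Pa Pb F n : ℕ} {reps : List Rep} {rels : List (List Bool × ℕ)} {Ps : List ℕ}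
    (hPa : checkAut Pa = true) (hF : F < 2 ^ 24)
    (hreps : repsOK reps = true) (hcov : coverOK Pa F n reps = true)
    (hpair : pairOK Ps Pa Pb reps rels = true) {s : ℕ} (hs : s ∈ Ps) (hsv : validPerm s = true)
    (hcomm : Commute (g s) (g Pa)) {t : Equiv.Perm GolayPt} (ht : t ∈ M24) (ht2 : t * t = 1)
    (ht1 : t ≠ 1) (hp : ∃ p, t p = p) (hFt : ∀ j < 24, F.testBit j = true → t (pt j) = pt j)
    (hrel : Rel rels (g s) t) :
    s = Pa ∧ ∃ i : ℕ, (g Pa) ^ i * t * ((g Pa) ^ i)⁻¹ = g Pb := by
  obtain ⟨p, hp⟩ := hp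
  obtain ⟨o, ho, hfix⟩ := fixed_octad ht ht2 ht1 hp
  have hva := checkAut_valid hPa
  obtain ⟨i, r, hr, hi⟩ := exists_rep hva hF hcov ho fun j hj hb => (hfix _).mp (hFt j hj hb)
  set A := g Pa with hA
  have hAM : A ∈ M24 := g_mem_M24 hPa
  have hAi : A ^ i ∈ M24 := M24.pow_mem hAM i
  set t' := A ^ i * t * (A ^ i)⁻¹ with ht'
  have ht'M : t' ∈ M24 := M24.mul_mem (M24.mul_mem hAi ht) (M24.inv_mem hAi)
  have ht'1 : t' ≠ 1 := by
    intro h
    apply ht1
    have e : t = (A ^ i)⁻¹ * t' * A ^ i := by rw [ht']; group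
    rw [e, h]
    group
  have ht'fix : ∀ y ∈ setOf r.1, t' y = y := by
    intro y hy
    rw [← hi, Finset.mem_smul_finset] at hy
    obtain ⟨z, hz, rfl⟩ := hy
    have e : (A ^ i)⁻¹ ((A ^ i) z) = z := by simp
    simp only [ht', Equiv.Perm.smul_def, Equiv.Perm.mul_apply]
    rw [e, (hfix z).mpr hz]
  obtain ⟨P, hP, hPid, hvP, hC⟩ := cand_of_fix hreps hr ht'M ht'1 ht'fix
  obtain ⟨hS, -, hvSI, -⟩ := rep_spec hreps hr
  have hvC : validPerm (comp (comp r.2.1 P) r.2.2) = true :=
    valid_comp (valid_comp (checkAut_valid hS) hvP) hvSI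
  have hrel' : Rel rels (g s) t' := by
    have h3 := hrel.conj (A ^ i)
    have h4 : A ^ i * g s * (A ^ i)⁻¹ = g s := by
      have h5 : Commute (g s) (A ^ i) := hcomm.pow_right i
      rw [h5.symm.eq]
      group
    rwa [h4] at h3
  rw [hC] at hrel'
  have h5 := (relsOK_iff hsv hvC rels).mpr hrel'
  have h6 := allG_iff.mp (allG_iff.mp hpair r hr) P hP
  have h7 : Nat.beq P idP = false := by
    cases hb : Nat.beq P idP with
    | false => rfl
    | true => exact absurd (Nat.eq_of_beq_eq_true hb) hPid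
  rw [h7] at h6
  simp only [cond_false, force_eq] at h6
  have h8 := allG_iff.mp h6 s hs
  rw [h5] at h8
  simp only [cond_true, Bool.and_eq_true] at h8
  refine ⟨Nat.eq_of_beq_eq_true h8.1, i, ?_⟩
  show t' = g Pb
  rw [hC, Nat.eq_of_beq_eq_true h8.2]

end Cfsg.Agent.Lib.Golay.OutKer
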